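import Mathlib
import Cfsg.Agent.Lib.Helper25.DihGroup
import Cfsg.Agent.Lib.Helper80.Cores
import Cfsg.Agent.S0111
import Cfsg.Agent.S0215

set_option autoImplicit false

/-! Groups with an involution whose centralizer is dihedral of order 8: basic fusion analysis. -/

namespace Cfsg.Agent.Lib.Helper37

open Cfsg.Agent.Lib.Helper25 (Dih)

variable {G : Type*} [Group G]

/-- `C_G(z)` is dihedral of order 8, in ambient form. -/
structure D8C (z σ τ : G) : Prop where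
  dih : Dih (Subgroup.centralizer ({z} : Set G)) σ τ 4
  hz : z = σ ^ 2

/-- an involutory automorphism (inner, ambient form) without fixed points inverts. -/
theorem inverts_of_fpf [Finite G] (K : Subgroup G) {t : G} (htt : t * t = 1)
    (hn : ∀ k ∈ K, t * k * t⁻¹ ∈ K) (hf : ∀ k ∈ K, t * k = k * t → k = 1) :
    ∀ k ∈ K, t * k * t⁻¹ = k⁻¹ := by
  have hti : t⁻¹ = t := inv_eq_of_mul_eq_one_left htt
  let φ : K → K := fun k => ⟨(k : G)⁻¹ * (t * k * t⁻¹), K.mul_mem (K.inv_mem k.2) (hn k k.2)⟩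
  have hinj : Function.Injective φ := by
    intro k m hkm
    have h1 : (k : G)⁻¹ * (t * k * t⁻¹) = (m : G)⁻¹ * (t * m * t⁻¹) := congrArg Subtype.val hkm
    have h2 : t * ((m : G) * (k : G)⁻¹) = ((m : G) * (k : G)⁻¹) * t := by
      have e1 : (m : G) * (k : G)⁻¹ = (t * m * t⁻¹) * (t * k * t⁻¹)⁻¹ := by
        have : (m : G) * ((k : G)⁻¹ * (t * k * t⁻¹)) = t * m * t⁻¹ := by rw [h1]; group
        calc (m : G) * (k : G)⁻¹ = (m : G) * ((k : G)⁻¹ * (t * k * t⁻¹)) * (t * k * t⁻¹)⁻¹ := by group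
          _ = _ := by rw [this]
      have e2 : (t * m * t⁻¹) * (t * k * t⁻¹)⁻¹ = t * ((m : G) * (k : G)⁻¹) * t⁻¹ := by group
      rw [e2] at e1
      calc t * ((m : G) * (k : G)⁻¹) = t * ((m : G) * (k : G)⁻¹) * t⁻¹ * t := by group
        _ = _ := by rw [← e1]
    have h3 := hf _ (K.mul_mem m.2 (K.inv_mem k.2)) h2
    apply Subtype.ext
    exact (mul_inv_eq_one.1 h3).symm
  have hsurj : Function.Surjective φ := Finite.surjective_of_injective hinj
  intro k hk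
  obtain ⟨m, hm⟩ := hsurj ⟨k, hk⟩
  have h1 : (m : G)⁻¹ * (t * m * t⁻¹) = k := congrArg Subtype.val hm
  rw [← h1, hti]
  have : t * ((m : G)⁻¹ * (t * m * t)) * t = t * (m : G)⁻¹ * t * m * (t * t) := by group
  rw [this, htt, mul_one]
  have e : ((m : G)⁻¹ * (t * m * t))⁻¹ = t⁻¹ * (m : G)⁻¹ * t⁻¹ * m := by group
  rw [e, hti]

namespace D8C

variable {z σ τ : G}

theorem mem_iff (_D : D8C z σ τ) {g : G} :
    g ∈ Subgroup.centralizer ({z} : Set G) ↔ g * z = z * g :=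
  Subgroup.mem_centralizer_singleton_iff

theorem ordz (D : D8C z σ τ) : orderOf z = 2 := by
  rw [D.hz]; exact D.dih.ordJ (h := 2) rfl (by norm_num)

theorem zz (D : D8C z σ τ) : z * z = 1 := by
  have : z ^ 2 = 1 := D.ordz ▸ pow_orderOf_eq_one z
  rwa [sq] at this

theorem zinv (D : D8C z σ τ) : z⁻¹ = z := inv_eq_of_mul_eq_one_left D.zz

theorem z_ne (D : D8C z σ τ) : z ≠ 1 := by
  intro h
  have := D.ordz
  rw [h, orderOf_one] at this
  omega

theorem z_mem_zp (D : D8C z σ τ) : z ∈ Subgroup.zpowers σ := by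
  rw [D.hz]; exact Subgroup.pow_mem _ (Subgroup.mem_zpowers σ) 2

theorem σz (D : D8C z σ τ) : σ * z = z * σ := D.mem_iff.1 D.dih.σ_mem

theorem σσ (D : D8C z σ τ) : σ * σ = z := by rw [D.hz, sq]

theorem σ_ne_inv (D : D8C z σ τ) : σ ≠ σ⁻¹ := by
  intro h
  apply D.z_ne
  rw [← D.σσ]
  nth_rewrite 2 [h]
  exact mul_inv_cancel σ

theorem card_T (D : D8C z σ τ) : Nat.card (Subgroup.centralizer ({z} : Set G)) = 8 := D.dih.card

theorem pgroup_T (D : D8C z σ τ) : IsPGroup 2 (Subgroup.centralizer ({z} : Set G)) :=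
  IsPGroup.of_card (n := 3) (by rw [D.card_T]; norm_num)

/-- conjugation by `σ` on a non-central involution. -/
theorem conj_σ (D : D8C z σ τ) {u : G} (hu : u ∈ Subgroup.centralizer ({z} : Set G))
    (hun : u ∉ Subgroup.zpowers σ) : σ * u * σ⁻¹ = z * u := by
  have h1 := D.dih.inv_of_not_mem hu hun (Subgroup.mem_zpowers σ)
  have h2 : u * σ⁻¹ * u⁻¹ = σ := by
    have : u * σ⁻¹ * u⁻¹ = (u * σ * u⁻¹)⁻¹ := by group
    rw [this, h1, inv_inv]
  calc σ * u * σ⁻¹ = σ * (u * σ⁻¹ * u⁻¹) * u := by group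
    _ = z * u := by rw [h2, D.σσ]

theorem invol_cases [Finite G] (D : D8C z σ τ) {u : G}
    (hu : u ∈ Subgroup.centralizer ({z} : Set G)) (hu2 : orderOf u = 2) :
    u = z ∨ u ∉ Subgroup.zpowers σ := by
  rw [D.hz]
  exact D.dih.invol_cases (h := 2) rfl (by norm_num) hu hu2

theorem sq_of_not_mem (D : D8C z σ τ) {u : G} (hu : u ∈ Subgroup.centralizer ({z} : Set G))
    (hun : u ∉ Subgroup.zpowers σ) : u * u = 1 := D.dih.sq_of_not_mem hu hun

theorem ord_of_not_mem (D : D8C z σ τ) {u : G} (hu : u ∈ Subgroup.centralizer ({z} : Set G))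
    (hun : u ∉ Subgroup.zpowers σ) : orderOf u = 2 :=
  Cfsg.Agent.Lib.Helper11.orderOf_two_iff.2 ⟨D.sq_of_not_mem hu hun,
    fun h => hun (h ▸ Subgroup.one_mem _)⟩

/-- an involution of `T` commuting with `σ` is `z`. -/
theorem eq_z_of_comm [Finite G] (D : D8C z σ τ) {w : G}
    (hw : w ∈ Subgroup.centralizer ({z} : Set G)) (hw2 : orderOf w = 2) (hc : w * σ = σ * w) :
    w = z := by
  rcases D.invol_cases hw hw2 with h | h
  · exact h
  · exfalso
    have h1 := D.dih.inv_of_not_mem hw h (Subgroup.mem_zpowers σ)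
    rw [hc, mul_inv_cancel_right] at h1
    exact D.σ_ne_inv h1

theorem comm_cases [Finite G] (D : D8C z σ τ) {u w : G}
    (hu : u ∈ Subgroup.centralizer ({z} : Set G)) (hun : u ∉ Subgroup.zpowers σ)
    (hw : w ∈ Subgroup.centralizer ({z} : Set G)) (hc : w * u = u * w) :
    w = 1 ∨ w = z ∨ w = u ∨ w = z * u := by
  rw [D.hz]
  exact D.dih.comm_cases (h := 2) rfl (by norm_num) hu hun hw hc

/-- `N_G(T) = T`. -/
theorem mem_of_mem_normalizer [Finite G] (D : D8C z σ τ) {g : G}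
    (hg : g ∈ Subgroup.normalizer ((Subgroup.centralizer ({z} : Set G) : Subgroup G) : Set G)) :
    g ∈ Subgroup.centralizer ({z} : Set G) := by
  rw [Subgroup.mem_normalizer_iff] at hg
  have hzT : z ∈ Subgroup.centralizer ({z} : Set G) := D.mem_iff.2 rfl
  have h1 : g * z * g⁻¹ ∈ Subgroup.centralizer ({z} : Set G) := (hg z).1 hzT
  have h2 : orderOf (g * z * g⁻¹) = 2 := by
    rw [← D.ordz]
    exact orderOf_injective (MulAut.conj g).toMonoidHom (MulAut.conj g).injective z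
  have h3 : g⁻¹ * σ * g ∈ Subgroup.centralizer ({z} : Set G) := by
    rw [hg]
    have : g * (g⁻¹ * σ * g) * g⁻¹ = σ := by group
    rw [this]; exact D.dih.σ_mem
  have h4 : g * z * g⁻¹ * σ = σ * (g * z * g⁻¹) := by
    have h5 := D.mem_iff.1 h3
    calc g * z * g⁻¹ * σ = g * (z * (g⁻¹ * σ * g)) * g⁻¹ := by group
      _ = g * ((g⁻¹ * σ * g) * z) * g⁻¹ := by rw [h5]
      _ = _ := by group
  have h6 := D.eq_z_of_comm h1 h2 h4
  rw [D.mem_iff]
  calc g * z = g * z * g⁻¹ * g := by group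
    _ = z * g := by rw [h6]

/-- `T = C_G(z)` is a Sylow 2-subgroup. -/
theorem exists_sylow [Finite G] (D : D8C z σ τ) :
    ∃ P : Sylow 2 G, (P : Subgroup G) = Subgroup.centralizer ({z} : Set G) := by
  have : Fact (Nat.Prime 2) := ⟨Nat.prime_two⟩
  obtain ⟨P, hP⟩ := D.pgroup_T.exists_le_sylow
  refine ⟨P, ?_⟩
  exact (Cfsg.Agent.Lib.Helper11.eq_of_normalizer_inf_le (P : Subgroup G) _ P.2 hP
    (fun x _ hx => D.mem_of_mem_normalizer hx)).symm

/-- elements of odd order in a conjugate of `T` are trivial. -/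
theorem eq_one_of_odd (D : D8C z σ τ) {h k : G} (hk : Odd (orderOf k))
    (hc : (h * z * h⁻¹) * k = k * (h * z * h⁻¹)) : k = 1 := by
  have h1 : h⁻¹ * k * h ∈ Subgroup.centralizer ({z} : Set G) := by
    rw [D.mem_iff]
    calc h⁻¹ * k * h * z = h⁻¹ * (k * (h * z * h⁻¹)) * h := by group
      _ = h⁻¹ * ((h * z * h⁻¹) * k) * h := by rw [hc]
      _ = _ := by group
  obtain ⟨l, hl⟩ := (IsPGroup.iff_orderOf.1 D.pgroup_T) ⟨_, h1⟩
  rw [Subgroup.orderOf_mk] at hl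
  have h2 : orderOf (h⁻¹ * k * h) = orderOf k := by
    have := orderOf_injective (MulAut.conj h⁻¹).toMonoidHom (MulAut.conj h⁻¹).injective k
    simpa using this
  rw [h2] at hl
  rw [← orderOf_eq_one_iff]
  rcases Nat.eq_zero_or_pos l with h0 | h0
  · rw [hl, h0, pow_zero]
  · exfalso
    rw [hl] at hk
    exact (Nat.not_even_iff_odd.2 hk) ((Nat.even_pow).2 ⟨even_two, h0.ne'⟩)

/-- a conjugate of `z` normalizing a subgroup of odd order inverts it. -/
theorem inverts [Finite G] (D : D8C z σ τ) (K : Subgroup G) (hK : Odd (Nat.card K)) (h : G)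
    (hn : ∀ k ∈ K, (h * z * h⁻¹) * k * (h * z * h⁻¹)⁻¹ ∈ K) :
    ∀ k ∈ K, (h * z * h⁻¹) * k * (h * z * h⁻¹)⁻¹ = k⁻¹ := by
  apply inverts_of_fpf K _ hn
  · intro k hk hc
    apply D.eq_one_of_odd _ hc
    exact Odd.of_dvd_nat hK (Subgroup.orderOf_dvd_natCard K hk)
  · have : h * z * h⁻¹ * (h * z * h⁻¹) = h * (z * z) * h⁻¹ := by group
    rw [this, D.zz]; group

/-- the `3`-cycle on a fused four-group. -/
theorem fus_cycle [Finite G] (D : D8C z σ τ) {u g : G}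
    (hu : u ∈ Subgroup.centralizer ({z} : Set G)) (hun : u ∉ Subgroup.zpowers σ)
    (hg : g * z * g⁻¹ = u) :
    ∃ x : G, x * z * x⁻¹ = u ∧ x * u * x⁻¹ = z * u ∧ x * (z * u) * x⁻¹ = z := by
  have huz : u * z = z * u := D.mem_iff.1 hu
  have huu := D.sq_of_not_mem hu hun
  -- w = g⁻¹ z g
  have hw : g⁻¹ * z * g ∈ Subgroup.centralizer ({z} : Set G) := by
    rw [D.mem_iff]
    have e1 : g⁻¹ * z * g * z = g⁻¹ * (z * (g * z * g⁻¹)) * g := by group
    have e2 : z * (g⁻¹ * z * g) = g⁻¹ * ((g * z * g⁻¹) * z) * g := by group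
    rw [e1, e2, hg, huz]
  have hw2 : orderOf (g⁻¹ * z * g) = 2 := by
    rw [← D.ordz]
    have := orderOf_injective (MulAut.conj g⁻¹).toMonoidHom (MulAut.conj g⁻¹).injective z
    simpa using this
  have hwn : g⁻¹ * z * g ∉ Subgroup.zpowers σ := by
    rcases D.invol_cases hw hw2 with h | h
    · exfalso
      apply hun
      have : u = z := by
        rw [← hg]
        calc g * z * g⁻¹ = g * (g⁻¹ * z * g) * g⁻¹ := by rw [h]
          _ = z := by group
      rw [this]; exact D.z_mem_zp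
    · exact h
  have h1 := D.conj_σ hw hwn
  have h2 := D.conj_σ hu hun
  have hσz : σ * z * σ⁻¹ = z := by rw [D.σz]; group
  -- t' = g σ g⁻¹
  have h3 : (g * σ * g⁻¹) * z * (g * σ * g⁻¹)⁻¹ = u * z := by
    calc (g * σ * g⁻¹) * z * (g * σ * g⁻¹)⁻¹ = g * (σ * (g⁻¹ * z * g) * σ⁻¹) * g⁻¹ := by group
      _ = g * (z * (g⁻¹ * z * g)) * g⁻¹ := by rw [h1]
      _ = (g * z * g⁻¹) * z := by group
      _ = u * z := by rw [hg]
  have h4 : (g * σ * g⁻¹) * u * (g * σ * g⁻¹)⁻¹ = u := by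
    rw [← hg]
    calc (g * σ * g⁻¹) * (g * z * g⁻¹) * (g * σ * g⁻¹)⁻¹ = g * (σ * z * σ⁻¹) * g⁻¹ := by group
      _ = _ := by rw [hσz]
  have hA : (σ * (g * σ * g⁻¹)) * z * (σ * (g * σ * g⁻¹))⁻¹ = u := by
    calc (σ * (g * σ * g⁻¹)) * z * (σ * (g * σ * g⁻¹))⁻¹
        = σ * ((g * σ * g⁻¹) * z * (g * σ * g⁻¹)⁻¹) * σ⁻¹ := by group
      _ = σ * (u * z) * σ⁻¹ := by rw [h3]
      _ = (σ * u * σ⁻¹) * (σ * z * σ⁻¹) := by group
      _ = z * u * z := by rw [h2, hσz]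
      _ = u := by rw [mul_assoc, huz, ← mul_assoc, D.zz, one_mul]
  have hB : (σ * (g * σ * g⁻¹)) * u * (σ * (g * σ * g⁻¹))⁻¹ = z * u := by
    calc (σ * (g * σ * g⁻¹)) * u * (σ * (g * σ * g⁻¹))⁻¹
        = σ * ((g * σ * g⁻¹) * u * (g * σ * g⁻¹)⁻¹) * σ⁻¹ := by group
      _ = σ * u * σ⁻¹ := by rw [h4]
      _ = z * u := h2
  refine ⟨σ * (g * σ * g⁻¹), hA, hB, ?_⟩
  calc (σ * (g * σ * g⁻¹)) * (z * u) * (σ * (g * σ * g⁻¹))⁻¹
      = ((σ * (g * σ * g⁻¹)) * z * (σ * (g * σ * g⁻¹))⁻¹)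
        * ((σ * (g * σ * g⁻¹)) * u * (σ * (g * σ * g⁻¹))⁻¹) := by group
    _ = u * (z * u) := by rw [hA, hB]
    _ = z := by rw [← mul_assoc, huz, mul_assoc, huu, mul_one]

/-- a subgroup of odd order normalized by a fused four-group is trivial. -/
theorem odd_trivial [Finite G] (D : D8C z σ τ) {u g : G}
    (hu : u ∈ Subgroup.centralizer ({z} : Set G)) (hun : u ∉ Subgroup.zpowers σ)
    (hg : g * z * g⁻¹ = u) (K : Subgroup G) (hK : Odd (Nat.card K))
    (hnz : ∀ k ∈ K, z * k * z⁻¹ ∈ K) (hnu : ∀ k ∈ K, u * k * u⁻¹ ∈ K) : K = ⊥ := by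
  obtain ⟨x, hx1, hx2, -⟩ := D.fus_cycle hu hun hg
  have e1 : (1 : G) * z * (1 : G)⁻¹ = z := by group
  have i1 : ∀ k ∈ K, z * k * z⁻¹ = k⁻¹ := by
    have := D.inverts K hK 1
    rw [e1] at this
    exact this hnz
  have i2 : ∀ k ∈ K, u * k * u⁻¹ = k⁻¹ := by
    have := D.inverts K hK g
    rw [hg] at this
    exact this hnu
  have e3 : (x * g) * z * (x * g)⁻¹ = z * u := by
    calc (x * g) * z * (x * g)⁻¹ = x * (g * z * g⁻¹) * x⁻¹ := by group
      _ = z * u := by rw [hg, hx2]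
  have i3 : ∀ k ∈ K, (z * u) * k * (z * u)⁻¹ = k⁻¹ := by
    have := D.inverts K hK (x * g)
    rw [e3] at this
    apply this
    intro k hk
    have : z * u * k * (z * u)⁻¹ = z * (u * k * u⁻¹) * z⁻¹ := by group
    rw [this]
    exact hnz _ (hnu k hk)
  rw [Subgroup.eq_bot_iff_forall]
  intro k hk
  have h1 : (z * u) * k * (z * u)⁻¹ = k := by
    have : z * u * k * (z * u)⁻¹ = z * (u * k * u⁻¹) * z⁻¹ := by group
    rw [this, i2 k hk, i1 _ (K.inv_mem hk), inv_inv]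
  have h2 : k = k⁻¹ := by rw [← i3 k hk]; exact h1.symm
  have h3 : k ^ 2 = 1 := by
    rw [sq]
    nth_rewrite 2 [h2]
    exact mul_inv_cancel k
  have h4 : orderOf k ∣ 2 := orderOf_dvd_of_pow_eq_one h3
  have h5 : Odd (orderOf k) := Odd.of_dvd_nat hK (Subgroup.orderOf_dvd_natCard K hk)
  rw [← orderOf_eq_one_iff]
  rcases (Nat.dvd_prime Nat.prime_two).1 h4 with h | h
  · exact h
  · rw [h] at h5; exact absurd h5 (by decide)

end D8C

end Cfsg.Agent.Lib.Helper37
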