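import Mathlib
import Cfsg.Agent.Lib.Helper37.D8Cent

set_option autoImplicit false

/-! Groups with an involution whose centralizer is dihedral of order 8: the isolated case and the
case in which all involutions are fused. -/

namespace Cfsg.Agent.Lib.Helper37

open Cfsg.Agent.Lib.Helper25 (Dih)
open scoped commutatorElement

variable {G : Type*} [Group G]

theorem exists_D8C [Finite G] {z : G} (hz : orderOf z = 2)
    (e : Subgroup.centralizer ({z} : Set G) ≃* DihedralGroup 4) : ∃ σ τ, D8C z σ τ := by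
  have hcard : Nat.card (Subgroup.centralizer ({z} : Set G)) = 8 := by
    rw [Nat.card_congr e.toEquiv, DihedralGroup.nat_card]
  have hp : IsPGroup 2 (Subgroup.centralizer ({z} : Set G)) :=
    IsPGroup.of_card (n := 3) (by rw [hcard]; norm_num)
  have ho : orderOf ((e.symm (DihedralGroup.r 1) : Subgroup.centralizer ({z} : Set G)) : G) = 4 := by
    rw [Subgroup.orderOf_coe, MulEquiv.orderOf_eq, DihedralGroup.orderOf_r_one]
  obtain ⟨τ, D⟩ := Cfsg.Agent.Lib.Helper25.exists_dih _ hp 4 (by norm_num) e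
    (e.symm (DihedralGroup.r 1)).2 ho
  refine ⟨_, τ, D, ?_⟩
  have hzT : z ∈ Subgroup.centralizer ({z} : Set G) :=
    Subgroup.mem_centralizer_singleton_iff.2 rfl
  rcases D.invol_cases (h := 2) rfl (by norm_num) hzT hz with h | h
  · exact h
  · exfalso
    have h1 := D.inv_of_not_mem hzT h (Subgroup.mem_zpowers _)
    have h2 := Subgroup.mem_centralizer_singleton_iff.1 D.σ_mem
    rw [← h2, mul_inv_cancel_right] at h1
    have h3 : ((e.symm (DihedralGroup.r 1) : Subgroup.centralizer ({z} : Set G)) : G) ^ 2 = 1 := by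
      rw [sq]
      nth_rewrite 2 [h1]
      exact mul_inv_cancel _
    have h4 := orderOf_dvd_of_pow_eq_one h3
    rw [ho] at h4
    omega

namespace D8C

variable {z σ τ : G}

theorem τ_not_mem (D : D8C z σ τ) : τ ∉ Subgroup.zpowers σ := by
  intro h
  obtain ⟨k, hk⟩ := h
  have h1 := D.dih.rel
  have h2 : τ * σ = σ * τ := by
    rw [← hk]
    show σ ^ k * σ = σ * σ ^ k
    rw [← zpow_add_one, ← zpow_one_add, add_comm]
  rw [h2, mul_inv_cancel_right] at h1
  exact D.σ_ne_inv h1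

theorem στ_not_mem (D : D8C z σ τ) : σ * τ ∉ Subgroup.zpowers σ := by
  intro h
  apply D.τ_not_mem
  have : τ = σ⁻¹ * (σ * τ) := by group
  rw [this]
  exact Subgroup.mul_mem _ (Subgroup.inv_mem _ (Subgroup.mem_zpowers σ)) h

theorem στ_mem (D : D8C z σ τ) : σ * τ ∈ Subgroup.centralizer ({z} : Set G) :=
  Subgroup.mul_mem _ D.dih.σ_mem D.dih.τ_mem

theorem σ4 (D : D8C z σ τ) : σ ^ 4 = 1 := by
  have := D.dih.ordσ
  rw [← this]; exact pow_orderOf_eq_one σ

/-- the other class of non-central involutions. -/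
theorem swap (D : D8C z σ τ) : D8C z σ (σ * τ) := by
  refine ⟨⟨D.dih.σ_mem, D.στ_mem, D.dih.ordσ, D.ord_of_not_mem D.στ_mem D.στ_not_mem,
    D.dih.inv_of_not_mem D.στ_mem D.στ_not_mem (Subgroup.mem_zpowers σ), ?_, D.dih.card⟩, D.hz⟩
  intro x hx
  obtain ⟨a, h | h⟩ := D.dih.cases x hx
  · exact ⟨a, Or.inl h⟩
  · refine ⟨a + 3, Or.inr ?_⟩
    rw [h, ← mul_assoc, ← pow_succ, show a + 3 + 1 = a + 4 from rfl, pow_add, D.σ4, mul_one]

/-- the four non-central involutions. -/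
theorem not_mem_cases (D : D8C z σ τ) {u : G} (hu : u ∈ Subgroup.centralizer ({z} : Set G))
    (hun : u ∉ Subgroup.zpowers σ) : u = τ ∨ u = σ * τ ∨ u = z * τ ∨ u = z * (σ * τ) := by
  obtain ⟨a, rfl⟩ := D.dih.not_mem_form hu hun
  have h1 : σ ^ a = σ ^ (a % 4) := by
    have := pow_mod_orderOf σ a
    rw [D.dih.ordσ] at this
    exact this.symm
  rw [h1]
  have h2 : a % 4 < 4 := Nat.mod_lt _ (by norm_num)
  interval_cases (a % 4)
  · left; simp
  · right; left; simp
  · right; right; left; rw [D.hz]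
  · right; right; right; rw [D.hz, ← mul_assoc, ← pow_succ]

/-- the isolated case: Glauberman's theorem gives `G = C_G(z) O(G)`. -/
theorem zstar_case [Finite G] (D : D8C z σ τ)
    (hiso : ∀ g : G, g * z * g⁻¹ ∈ Subgroup.centralizer ({z} : Set G) → g * z * g⁻¹ = z) :
    Subgroup.centralizer ({z} : Set G) ⊔ Cfsg.oddCore G = ⊤ := by
  obtain ⟨P, hP⟩ := D.exists_sylow
  have hzT : z ∈ Subgroup.centralizer ({z} : Set G) := D.mem_iff.2 rfl
  obtain ⟨N, hN, hodd, hcomm⟩ := Cfsg.Agent.S0215.result P z D.ordz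
    (by show z ∈ (P : Subgroup G); rw [hP]; exact hzT)
    (by
      intro g hg
      apply hiso g
      rw [← hP]; exact hg)
  have hNle : N ≤ Cfsg.oddCore G :=
    Cfsg.Agent.Lib.Helper80.le_pPrimeCore hN ((Nat.coprime_two_right).2 hodd)
  rw [eq_top_iff]
  intro g _
  -- n = g z g⁻¹ z⁻¹
  obtain ⟨n, hn⟩ : ∃ n, n = g * z * g⁻¹ * z⁻¹ := ⟨_, rfl⟩
  have hnN : n ∈ N := by
    have : n = (z * g * z⁻¹ * g⁻¹)⁻¹ := by rw [hn]; group
    rw [this]; exact N.inv_mem (hcomm g)
  have hnz : n * z = g * z * g⁻¹ := by rw [hn]; group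
  have hinv : z * n * z⁻¹ = n⁻¹ := by
    have h1 : (n * z) * (n * z) = 1 := by
      rw [hnz]
      have : g * z * g⁻¹ * (g * z * g⁻¹) = g * (z * z) * g⁻¹ := by group
      rw [this, D.zz]; group
    rw [D.zinv]
    have h2 : n * (z * n * z) = 1 := by rw [← h1]; group
    exact eq_inv_of_mul_eq_one_right h2
  have hoddn : Odd (orderOf n) := Odd.of_dvd_nat hodd (Subgroup.orderOf_dvd_natCard N hnN)
  obtain ⟨j, hj⟩ := hoddn
  obtain ⟨k, hk⟩ : ∃ k, k = n ^ (j + 1) := ⟨_, rfl⟩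
  have hkk : k * k = n := by
    rw [hk, ← pow_add, show j + 1 + (j + 1) = (2 * j + 1) + 1 by ring, ← hj, pow_succ,
      pow_orderOf_eq_one, one_mul]
  have hkN : k ∈ N := by rw [hk]; exact N.pow_mem hnN _
  have hkinv : z * k⁻¹ * z⁻¹ = k := by
    rw [hk, ← inv_pow, ← conj_pow]
    have : z * n⁻¹ * z⁻¹ = (z * n * z⁻¹)⁻¹ := by group
    rw [this, hinv, inv_inv]
  have hconj : k * z * k⁻¹ = g * z * g⁻¹ := by
    calc k * z * k⁻¹ = k * (z * k⁻¹ * z⁻¹) * z := by group
      _ = n * z := by rw [hkinv, hkk]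
      _ = _ := hnz
  have hmem : k⁻¹ * g ∈ Subgroup.centralizer ({z} : Set G) := by
    rw [D.mem_iff]
    calc k⁻¹ * g * z = k⁻¹ * (g * z * g⁻¹) * g := by group
      _ = k⁻¹ * (k * z * k⁻¹) * g := by rw [hconj]
      _ = _ := by group
  have : g = k * (k⁻¹ * g) := by group
  rw [this]
  exact Subgroup.mul_mem _ (Subgroup.mem_sup_right (hNle hkN)) (Subgroup.mem_sup_left hmem)

/-- both classes of non-central involutions are fused to `z`. -/
def AllFus (_D : D8C z σ τ) : Prop := (∃ g : G, g * z * g⁻¹ = τ) ∧ (∃ g : G, g * z * g⁻¹ = σ * τ)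

theorem fus_mul [Finite G] (D : D8C z σ τ) {u : G} (hu : u ∈ Subgroup.centralizer ({z} : Set G))
    (hun : u ∉ Subgroup.zpowers σ) (h : ∃ g : G, g * z * g⁻¹ = u) :
    ∃ g : G, g * z * g⁻¹ = z * u := by
  obtain ⟨g, hg⟩ := h
  obtain ⟨x, -, hx, -⟩ := D.fus_cycle hu hun hg
  refine ⟨x * g, ?_⟩
  calc (x * g) * z * (x * g)⁻¹ = x * (g * z * g⁻¹) * x⁻¹ := by group
    _ = z * u := by rw [hg, hx]

theorem AllFus.all [Finite G] {D : D8C z σ τ} (h : D.AllFus) {u : G}
    (hu : u ∈ Subgroup.centralizer ({z} : Set G)) (hu2 : orderOf u = 2) :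
    ∃ g : G, g * z * g⁻¹ = u := by
  rcases D.invol_cases hu hu2 with rfl | hun
  · exact ⟨1, by group⟩
  · rcases D.not_mem_cases hu hun with rfl | rfl | rfl | rfl
    · exact h.1
    · exact h.2
    · exact D.fus_mul D.dih.τ_mem D.τ_not_mem h.1
    · exact D.fus_mul D.στ_mem D.στ_not_mem h.2

theorem AllFus.le_of_mem [Finite G] {D : D8C z σ τ} (h : D.AllFus) (N : Subgroup G) [hN : N.Normal]
    (hz : z ∈ N) : Subgroup.centralizer ({z} : Set G) ≤ N := by
  have h1 : τ ∈ N := by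
    obtain ⟨g, hg⟩ := h.1
    rw [← hg]; exact hN.conj_mem z hz g
  have h2 : σ * τ ∈ N := by
    obtain ⟨g, hg⟩ := h.2
    rw [← hg]; exact hN.conj_mem z hz g
  have h3 : σ ∈ N := by
    have : σ = (σ * τ) * τ⁻¹ := by group
    rw [this]; exact N.mul_mem h2 (N.inv_mem h1)
  intro x hx
  obtain ⟨a, rfl | rfl⟩ := D.dih.cases x hx
  · exact N.pow_mem h3 a
  · exact N.mul_mem (N.pow_mem h3 a) h1

/-- Frattini: a normal subgroup containing `T` is everything. -/
theorem eq_top_of_le [Finite G] (D : D8C z σ τ) (N : Subgroup G) [hN : N.Normal]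
    (h : Subgroup.centralizer ({z} : Set G) ≤ N) : N = ⊤ := by
  have : Fact (Nat.Prime 2) := ⟨Nat.prime_two⟩
  obtain ⟨P, hP⟩ := D.exists_sylow
  have h1 := Sylow.normalizer_sup_eq_top' (N := N) P (by rw [hP]; exact h)
  have h2 : Subgroup.normalizer ((Subgroup.centralizer ({z} : Set G) : Subgroup G) : Set G) ⊔ N
      = ⊤ := by rw [← hP]; exact h1
  rw [← h2]
  apply le_antisymm le_sup_right
  exact sup_le (fun x hx => h (D.mem_of_mem_normalizer hx)) le_rfl

theorem z_mem_commutator (D : D8C z σ τ) : z ∈ commutator G := by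
  have h1 : ⁅τ, σ⁆ ∈ commutator G := by
    rw [commutator_def]
    exact Subgroup.commutator_mem_commutator (Subgroup.mem_top _) (Subgroup.mem_top _)
  have h2 : ⁅τ, σ⁆ = z := by
    rw [commutatorElement_def, D.dih.rel, ← mul_inv_rev, D.σσ, D.zinv]
  rwa [h2] at h1

theorem AllFus.perfect [Finite G] {D : D8C z σ τ} (h : D.AllFus) : commutator G = ⊤ :=
  D.eq_top_of_le _ (h.le_of_mem _ D.z_mem_commutator)

theorem AllFus.simple [Finite G] {D : D8C z σ τ} (h : D.AllFus) : IsSimpleGroup G := by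
  have : Fact (Nat.Prime 2) := ⟨Nat.prime_two⟩
  have : Nontrivial G := ⟨⟨z, 1, D.z_ne⟩⟩
  refine IsSimpleGroup.mk ?_
  intro N hN
  by_cases hodd : Odd (Nat.card N)
  · left
    obtain ⟨g, hg⟩ := h.1
    exact D.odd_trivial D.dih.τ_mem D.τ_not_mem hg N hodd (fun k hk => hN.conj_mem k hk z)
      (fun k hk => hN.conj_mem k hk τ)
  · right
    have h2 : 2 ∣ Nat.card N := by
      rw [Nat.not_odd_iff_even] at hodd
      exact hodd.two_dvd
    obtain ⟨v, hv⟩ := exists_prime_orderOf_dvd_card' 2 h2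
    have hv' : orderOf (v : G) = 2 := by rw [Subgroup.orderOf_coe, hv]
    obtain ⟨P, hP⟩ := D.exists_sylow
    obtain ⟨k, hk⟩ := Cfsg.Agent.Lib.Helper25.exists_conj_mem_sylow P
      (Cfsg.Agent.Lib.Helper25.isPGroup_zpowers_of_orderOf (x := (v : G)) (k := 1) (by rw [hv', pow_one]))
    have h3 := hk v (Subgroup.mem_zpowers _)
    rw [hP] at h3
    have h4 : orderOf (k * v * k⁻¹) = 2 := by
      rw [← hv']
      exact orderOf_injective (MulAut.conj k).toMonoidHom (MulAut.conj k).injective (v : G)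
    obtain ⟨g, hg⟩ := h.all h3 h4
    have h5 : z ∈ N := by
      have : z = g⁻¹ * (k * v * k⁻¹) * g⁻¹⁻¹ := by rw [← hg]; group
      rw [this]
      exact hN.conj_mem _ (hN.conj_mem _ v.2 k) g⁻¹
    exact D.eq_top_of_le N (h.le_of_mem N h5)

theorem relIndex_zpowers (D : D8C z σ τ) :
    (Subgroup.zpowers σ).relIndex (Subgroup.centralizer ({z} : Set G)) = 2 := by
  have h1 := Subgroup.relIndex_mul_relIndex ⊥ (Subgroup.zpowers σ)
    (Subgroup.centralizer ({z} : Set G)) bot_le D.dih.zpowers_le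
  rw [Subgroup.relIndex_bot_left, Subgroup.relIndex_bot_left, D.card_T, Nat.card_zpowers,
    D.dih.ordσ] at h1
  omega

/-- Thompson transfer: without a normal subgroup of index two missing `u`, a non-central
involution is fused to `z`. -/
theorem fus_of_transfer [Finite G] (D : D8C z σ τ) {u : G}
    (hu : u ∈ Subgroup.centralizer ({z} : Set G)) (hun : u ∉ Subgroup.zpowers σ)
    (hno : ¬ ∃ M : Subgroup G, M.Normal ∧ M.index = 2 ∧ u ∉ M) : ∃ g : G, g * z * g⁻¹ = u := by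
  obtain ⟨P, hP⟩ := D.exists_sylow
  have h1 := Cfsg.Agent.S0111.result P (Subgroup.zpowers σ) (by rw [hP]; exact D.dih.zpowers_le)
    (by rw [hP]; exact D.relIndex_zpowers) u (D.ord_of_not_mem hu hun) (by rw [hP]; exact hu) hun
  obtain ⟨g, hg⟩ := h1.resolve_left hno
  have h2 : orderOf (g * u * g⁻¹) = 2 := by
    rw [← D.ord_of_not_mem hu hun]
    exact orderOf_injective (MulAut.conj g).toMonoidHom (MulAut.conj g).injective u
  have h3 : g * u * g⁻¹ = z :=
    (D.invol_cases (D.dih.zpowers_le hg) h2).resolve_right (fun h => h hg)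
  refine ⟨g⁻¹, ?_⟩
  rw [← h3]; group

theorem allFus_of_no_index_two [Finite G] (D : D8C z σ τ)
    (hno : ∀ H : Subgroup G, H.index ≠ 2) : D.AllFus :=
  ⟨D.fus_of_transfer D.dih.τ_mem D.τ_not_mem (fun ⟨M, _, h, _⟩ => hno M h),
    D.fus_of_transfer D.στ_mem D.στ_not_mem (fun ⟨M, _, h, _⟩ => hno M h)⟩

end D8C

end Cfsg.Agent.Lib.Helper37
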