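import Mathlib
import Cfsg.Agent.Lib.Helper37.D8Simple
import Cfsg.Agent.Lib.Helper52.SylowN

set_option autoImplicit false

/-! Groups with an involution whose centralizer is dihedral of order 8: the four-group `V`
and the case in which exactly one class of non-central involutions is fused to `z`. -/

namespace Cfsg.Agent.Lib.Helper37

open Cfsg.Agent.Lib.Helper25 (Dih)

variable {G : Type*} [Group G]

/-- orbit-stabilizer for the conjugation action of a subgroup on an element. -/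
theorem card_eq_conj_orbit [Finite G] (B : Subgroup G) (z : G) :
    Nat.card B = {w : G | ∃ b ∈ B, b * z * b⁻¹ = w}.ncard *
      Nat.card (B ⊓ Subgroup.centralizer ({z} : Set G) : Subgroup G) := by
  let _ : MulAction B G := MulAction.compHom G ((MulAut.conj : G →* MulAut G).comp B.subtype)
  have hsm : ∀ (b : B) (w : G), b • w = (b : G) * w * (b : G)⁻¹ := fun b w => rfl
  have h1 := Subgroup.card_eq_card_quotient_mul_card_subgroup (MulAction.stabilizer B z)
  rw [← Nat.card_congr (MulAction.orbitEquivQuotientStabilizer B z)] at h1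
  rw [h1]
  congr 1
  · rw [← Nat.card_coe_set_eq]
    apply Nat.card_congr
    apply Equiv.setCongr
    ext w
    constructor
    · rintro ⟨b, rfl⟩
      exact ⟨b, b.2, rfl⟩
    · rintro ⟨b, hb, rfl⟩
      exact ⟨⟨b, hb⟩, rfl⟩
  · have h2 : (MulAction.stabilizer B z).map B.subtype
        = B ⊓ Subgroup.centralizer ({z} : Set G) := by
      ext g
      constructor
      · rintro ⟨b, hb, rfl⟩
        refine ⟨b.2, ?_⟩
        apply Subgroup.mem_centralizer_singleton_iff.2
        have h3 : (b : G) * z * (b : G)⁻¹ = z := hb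
        show (b : G) * z = z * (b : G)
        calc (b : G) * z = (b : G) * z * (b : G)⁻¹ * b := by group
          _ = _ := by rw [h3]
      · rintro ⟨hb, hc⟩
        replace hc := Subgroup.mem_centralizer_singleton_iff.1 hc
        refine ⟨⟨g, hb⟩, ?_, rfl⟩
        show g * z * g⁻¹ = z
        rw [hc]; group
    rw [← h2]
    exact (Subgroup.card_map_of_injective B.subtype_injective).symm

namespace D8C

variable {z σ τ : G}

/-- the four-group `V = ⟨z, τ⟩ = C_T(τ)`. -/
def V (_D : D8C z σ τ) : Subgroup G :=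
  Subgroup.centralizer ({z} : Set G) ⊓ Subgroup.centralizer ({τ} : Set G)

theorem τz (D : D8C z σ τ) : τ * z = z * τ := D.mem_iff.1 D.dih.τ_mem

theorem mem_V [Finite G] (D : D8C z σ τ) {g : G} :
    g ∈ D.V ↔ g = 1 ∨ g = z ∨ g = τ ∨ g = z * τ := by
  constructor
  · rintro ⟨h1, h2⟩
    exact D.comm_cases D.dih.τ_mem D.τ_not_mem h1 (Subgroup.mem_centralizer_singleton_iff.1 h2)
  · have hz : z ∈ D.V := ⟨D.mem_iff.2 rfl, Subgroup.mem_centralizer_singleton_iff.2 D.τz.symm⟩
    have hτ : τ ∈ D.V := ⟨D.dih.τ_mem, Subgroup.mem_centralizer_singleton_iff.2 rfl⟩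
    rintro (rfl | rfl | rfl | rfl)
    · exact Subgroup.one_mem _
    · exact hz
    · exact hτ
    · exact Subgroup.mul_mem _ hz hτ

theorem z_mem_V [Finite G] (D : D8C z σ τ) : z ∈ D.V := D.mem_V.2 (Or.inr (Or.inl rfl))
theorem τ_mem_V [Finite G] (D : D8C z σ τ) : τ ∈ D.V := D.mem_V.2 (Or.inr (Or.inr (Or.inl rfl)))
theorem zτ_mem_V [Finite G] (D : D8C z σ τ) : z * τ ∈ D.V :=
  D.mem_V.2 (Or.inr (Or.inr (Or.inr rfl)))

theorem V_le (D : D8C z σ τ) : D.V ≤ Subgroup.centralizer ({z} : Set G) := inf_le_left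

theorem τ_ne (D : D8C z σ τ) : τ ≠ 1 := fun h => D.τ_not_mem (h ▸ Subgroup.one_mem _)
theorem τ_ne_z (D : D8C z σ τ) : τ ≠ z := fun h => D.τ_not_mem (h ▸ D.z_mem_zp)
theorem zτ_ne (D : D8C z σ τ) : z * τ ≠ 1 := by
  intro h
  apply D.τ_ne_z
  have h1 := eq_inv_of_mul_eq_one_right h
  rw [D.zinv] at h1
  exact h1
theorem zτ_ne_z (D : D8C z σ τ) : z * τ ≠ z := by
  intro h
  exact D.τ_ne (mul_eq_left.1 h)
theorem zτ_ne_τ (D : D8C z σ τ) : z * τ ≠ τ := by
  intro h
  exact D.z_ne (mul_eq_right.1 h)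

theorem coe_V [Finite G] (D : D8C z σ τ) : (D.V : Set G) = {1, z, τ, z * τ} := by
  ext g
  simp only [SetLike.mem_coe, D.mem_V, Set.mem_insert_iff, Set.mem_singleton_iff]

theorem card_V [Finite G] (D : D8C z σ τ) : Nat.card D.V = 4 := by
  have h1 : Nat.card D.V = (D.V : Set G).ncard := Nat.card_coe_set_eq _
  rw [h1, D.coe_V]
  rw [Set.ncard_insert_of_notMem, Set.ncard_insert_of_notMem, Set.ncard_pair]
  · exact (D.zτ_ne_τ).symm
  · simp only [Set.mem_insert_iff, Set.mem_singleton_iff, not_or]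
    exact ⟨D.τ_ne_z.symm, D.zτ_ne_z.symm⟩
  · simp only [Set.mem_insert_iff, Set.mem_singleton_iff, not_or]
    exact ⟨D.z_ne.symm, D.τ_ne.symm, D.zτ_ne.symm⟩

theorem ncard_invol (D : D8C z σ τ) : ({z, τ, z * τ} : Set G).ncard = 3 := by
  rw [Set.ncard_insert_of_notMem, Set.ncard_pair]
  · exact (D.zτ_ne_τ).symm
  · simp only [Set.mem_insert_iff, Set.mem_singleton_iff, not_or]
    exact ⟨D.τ_ne_z.symm, D.zτ_ne_z.symm⟩

theorem V_comm [Finite G] (D : D8C z σ τ) {a b : G} (ha : a ∈ D.V) (hb : b ∈ D.V) :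
    a * b = b * a := by
  have hτz := D.τz
  have hzz := D.zz
  have hττ := D.dih.ττ
  rcases D.mem_V.1 ha with rfl | rfl | rfl | rfl <;> rcases D.mem_V.1 hb with rfl | rfl | rfl | rfl
  all_goals first
    | rfl
    | simp
    | exact hτz
    | exact hτz.symm
    | (rw [← mul_assoc, hτz])
    | (rw [mul_assoc, hτz])

theorem V_sq [Finite G] (D : D8C z σ τ) {a : G} (ha : a ∈ D.V) : a * a = 1 := by
  rcases D.mem_V.1 ha with rfl | rfl | rfl | rfl
  · simp
  · exact D.zz
  · exact D.dih.ττ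
  · rw [mul_assoc, ← mul_assoc τ, D.τz, mul_assoc, D.dih.ττ, mul_one, D.zz]

end D8C

end Cfsg.Agent.Lib.Helper37
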