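import Mathlib
import Cfsg.Agent.Lib.Helper37.D8Four

set_option autoImplicit false

/-! Groups with an involution whose centralizer is dihedral of order 8: exactly one class of
non-central involutions is fused to `z`.  Local analysis. -/

namespace Cfsg.Agent.Lib.Helper37

open Cfsg.Agent.Lib.Helper25 (Dih)

variable {G : Type*} [Group G]

namespace D8C

variable {z σ τ : G}

/-- `τ` is fused to `z`, `σ τ` is not. -/
structure Mixed (D : D8C z σ τ) : Prop where
  fus : ∃ g : G, g * z * g⁻¹ = τ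
  nfus : ¬ ∃ g : G, g * z * g⁻¹ = σ * τ

/-- the data used in the mixed case: a normal subgroup of index two and a `3`-cycle on `V`. -/
structure MixedData (D : D8C z σ τ) (M : Subgroup G) (x : G) : Prop where
  normal : M.Normal
  index : M.index = 2
  στ : σ * τ ∉ M
  x1 : x * z * x⁻¹ = τ
  x2 : x * τ * x⁻¹ = z * τ
  x3 : x * (z * τ) * x⁻¹ = z

theorem Mixed.exists_data [Finite G] {D : D8C z σ τ} (h : D.Mixed) :
    ∃ M x, D.MixedData M x := by
  obtain ⟨g, hg⟩ := h.fus
  obtain ⟨x, h1, h2, h3⟩ := D.fus_cycle D.dih.τ_mem D.τ_not_mem hg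
  by_contra hno
  apply h.nfus
  apply D.fus_of_transfer D.στ_mem D.στ_not_mem
  rintro ⟨M, hM, hi, hn⟩
  exact hno ⟨M, x, hM, hi, hn, h1, h2, h3⟩

namespace MixedData

variable {D : D8C z σ τ} {M : Subgroup G} {x : G}

theorem z_mem (h : D.MixedData M x) : z ∈ M := by
  rw [← D.σσ]; exact Subgroup.mul_self_mem_of_index_two h.index σ

theorem τ_mem (h : D.MixedData M x) : τ ∈ M := by
  rw [← h.x1]; exact h.normal.conj_mem z h.z_mem x

theorem σ_not_mem (h : D.MixedData M x) : σ ∉ M := fun hσ => h.στ (M.mul_mem hσ h.τ_mem)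

theorem inf_le [Finite G] (h : D.MixedData M x) {g : G}
    (hg : g ∈ Subgroup.centralizer ({z} : Set G)) (hgM : g ∈ M) : g ∈ D.V := by
  by_cases hz : g ∈ Subgroup.zpowers σ
  · obtain ⟨a, rfl⟩ := (mem_powers_iff_mem_zpowers).2 hz
    have h1 : σ ^ a = σ ^ (a % 4) := by
      have := pow_mod_orderOf σ a
      rw [D.dih.ordσ] at this
      exact this.symm
    simp only at hgM ⊢
    rw [h1] at hgM ⊢
    have h2 : a % 4 < 4 := Nat.mod_lt _ (by norm_num)
    interval_cases (a % 4)
    · simp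
    · exfalso; apply h.σ_not_mem; simpa using hgM
    · rw [← D.hz]; exact D.z_mem_V
    · exfalso
      apply h.σ_not_mem
      have e : σ = z⁻¹ * σ ^ 3 := by rw [D.hz]; group
      rw [e]
      exact M.mul_mem (M.inv_mem h.z_mem) hgM
  · rcases D.not_mem_cases hg hz with rfl | rfl | rfl | rfl
    · exact D.τ_mem_V
    · exact absurd hgM h.στ
    · exact D.zτ_mem_V
    · exfalso
      apply h.στ
      have e : σ * τ = z⁻¹ * (z * (σ * τ)) := by group
      rw [e]
      exact M.mul_mem (M.inv_mem h.z_mem) hgM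

theorem V_le [Finite G] (h : D.MixedData M x) : D.V ≤ M := by
  intro g hg
  rcases D.mem_V.1 hg with rfl | rfl | rfl | rfl
  · exact M.one_mem
  · exact h.z_mem
  · exact h.τ_mem
  · exact M.mul_mem h.z_mem h.τ_mem

theorem x_conj [Finite G] (h : D.MixedData M x) {v : G} (hv : v ∈ D.V) : x * v * x⁻¹ ∈ D.V := by
  rcases D.mem_V.1 hv with rfl | rfl | rfl | rfl
  · simp
  · rw [h.x1]; exact D.τ_mem_V
  · rw [h.x2]; exact D.zτ_mem_V
  · rw [h.x3]; exact D.z_mem_V

theorem x_conj' [Finite G] (h : D.MixedData M x) {v : G} (hv : v ∈ D.V) : x⁻¹ * v * x ∈ D.V := by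
  rcases D.mem_V.1 hv with hh | hh | hh | hh <;> rw [hh]
  · simp
  · have : x⁻¹ * z * x = z * τ := by
      calc x⁻¹ * z * x = x⁻¹ * (x * (z * τ) * x⁻¹) * x := by rw [h.x3]
        _ = z * τ := by group
    rw [this]; exact D.zτ_mem_V
  · have : x⁻¹ * τ * x = z := by rw [← h.x1]; group
    rw [this]; exact D.z_mem_V
  · have : x⁻¹ * (z * τ) * x = τ := by rw [← h.x2]; group
    rw [this]; exact D.τ_mem_V

/-- `C_M(v) = V` for every involution `v` of `V`. -/
theorem mem_V_of_comm [Finite G] (h : D.MixedData M x) {y v : G} (hy : y ∈ M) (hv : v ∈ D.V)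
    (hv1 : v ≠ 1) (hc : y * v = v * y) : y ∈ D.V := by
  have hn := h.normal
  rcases D.mem_V.1 hv with rfl | rfl | rfl | rfl
  · exact absurd rfl hv1
  · exact h.inf_le (D.mem_iff.2 hc) hy
  · have h1 : x⁻¹ * y * x ∈ D.V := by
      apply h.inf_le
      · rw [D.mem_iff]
        calc x⁻¹ * y * x * z = x⁻¹ * (y * (x * z * x⁻¹)) * x := by group
          _ = x⁻¹ * ((x * z * x⁻¹) * y) * x := by rw [h.x1, hc]
          _ = _ := by group
      · have := hn.conj_mem y hy x⁻¹
        rwa [inv_inv] at this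
    have h2 := h.x_conj h1
    have e : x * (x⁻¹ * y * x) * x⁻¹ = y := by group
    rwa [e] at h2
  · have h1 : x * y * x⁻¹ ∈ D.V := by
      apply h.inf_le
      · rw [D.mem_iff]
        calc x * y * x⁻¹ * z = x * y * x⁻¹ * (x * (z * τ) * x⁻¹) := by rw [h.x3]
          _ = x * (y * (z * τ)) * x⁻¹ := by group
          _ = x * ((z * τ) * y) * x⁻¹ := by rw [hc]
          _ = (x * (z * τ) * x⁻¹) * (x * y * x⁻¹) := by group
          _ = _ := by rw [h.x3]
      · exact hn.conj_mem y hy x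
    have h2 := h.x_conj' h1
    have e : x⁻¹ * (x * y * x⁻¹) * x = y := by group
    rwa [e] at h2

/-- every involution of `V` is conjugate to `z`. -/
theorem V_fus [Finite G] (h : D.MixedData M x) {v : G} (hv : v ∈ D.V) (hv1 : v ≠ 1) :
    ∃ g : G, g * z * g⁻¹ = v := by
  rcases D.mem_V.1 hv with rfl | rfl | rfl | rfl
  · exact absurd rfl hv1
  · exact ⟨1, by group⟩
  · exact ⟨x, h.x1⟩
  · refine ⟨x⁻¹, ?_⟩
    calc x⁻¹ * z * x⁻¹⁻¹ = x⁻¹ * (x * (z * τ) * x⁻¹) * x⁻¹⁻¹ := by rw [h.x3]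
      _ = z * τ := by group

/-- the normal closure of `z`. -/
theorem ncl_le (h : D.MixedData M x) : Subgroup.normalClosure ({z} : Set G) ≤ M := by
  have := h.normal
  apply Subgroup.normalClosure_le_normal
  simpa using h.z_mem

theorem V_le_ncl [Finite G] (h : D.MixedData M x) : D.V ≤ Subgroup.normalClosure ({z} : Set G) := by
  intro v hv
  by_cases hv1 : v = 1
  · rw [hv1]; exact Subgroup.one_mem _
  · obtain ⟨g, rfl⟩ := h.V_fus hv hv1
    exact Subgroup.normalClosure_normal.conj_mem z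
      (Subgroup.subset_normalClosure (Set.mem_singleton z)) g

theorem inf_ncl [Finite G] (h : D.MixedData M x) :
    Subgroup.centralizer ({z} : Set G) ⊓ Subgroup.normalClosure ({z} : Set G) = D.V :=
  le_antisymm (fun _ hg => h.inf_le hg.1 (h.ncl_le hg.2)) (le_inf D.V_le h.V_le_ncl)

/-- every non-trivial normal subgroup contains `z`. -/
theorem z_mem_of_normal [Finite G] (h : D.MixedData M x) (K : Subgroup G) [hK : K.Normal]
    (hK1 : K ≠ ⊥) : z ∈ K := by
  have : Fact (Nat.Prime 2) := ⟨Nat.prime_two⟩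
  by_cases hodd : Odd (Nat.card K)
  · exact absurd (D.odd_trivial D.dih.τ_mem D.τ_not_mem h.x1 K hodd
      (fun k hk => hK.conj_mem k hk z) (fun k hk => hK.conj_mem k hk τ)) hK1
  · have h2 : 2 ∣ Nat.card K := by
      rw [Nat.not_odd_iff_even] at hodd
      exact hodd.two_dvd
    obtain ⟨v, hv⟩ := exists_prime_orderOf_dvd_card' 2 h2
    have hv' : orderOf (v : G) = 2 := by rw [Subgroup.orderOf_coe, hv]
    obtain ⟨P, hP⟩ := D.exists_sylow
    obtain ⟨k, hk⟩ := Cfsg.Agent.Lib.Helper25.exists_conj_mem_sylow P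
      (Cfsg.Agent.Lib.Helper25.isPGroup_zpowers_of_orderOf (x := (v : G)) (k := 1) (by rw [hv', pow_one]))
    have h3 := hk v (Subgroup.mem_zpowers _)
    rw [hP] at h3
    have h4 : orderOf (k * v * k⁻¹) = 2 := by
      rw [← hv']
      exact orderOf_injective (MulAut.conj k).toMonoidHom (MulAut.conj k).injective (v : G)
    have h5 : k * v * k⁻¹ ∈ K := hK.conj_mem _ v.2 k
    rcases D.invol_cases h3 h4 with h6 | h6
    · rwa [h6] at h5
    · have h7 := D.conj_σ h3 h6
      have h8 : z = (σ * (k * v * k⁻¹) * σ⁻¹) * (k * v * k⁻¹)⁻¹ := by rw [h7]; group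
      rw [h8]
      exact K.mul_mem (hK.conj_mem _ h5 σ) (K.inv_mem h5)

theorem ncl_le_of_normal [Finite G] (h : D.MixedData M x) (K : Subgroup G) [hK : K.Normal]
    (hK1 : K ≠ ⊥) : Subgroup.normalClosure ({z} : Set G) ≤ K := by
  apply Subgroup.normalClosure_le_normal
  simpa using h.z_mem_of_normal K hK1

/-- a subgroup meeting `V` non-trivially and normalized by an element of `M` normalizing but not
lying in `V` contains `V`. -/
theorem V_le_of_inf [Finite G] (h : D.MixedData M x) {y : G} (hy : y ∈ M)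
    (hyn : y ∈ Subgroup.normalizer (D.V : Set G)) (hyV : y ∉ D.V) (K : Subgroup G)
    (hKy : ∀ k ∈ K, y * k * y⁻¹ ∈ K) {v : G} (hv : v ∈ D.V) (hv1 : v ≠ 1) (hvK : v ∈ K) :
    D.V ≤ K := by
  have h1 : y * v * y⁻¹ ∈ D.V := (Subgroup.mem_normalizer_iff.1 hyn v).1 hv
  have h2 : y * v * y⁻¹ ≠ v := by
    intro he
    apply hyV
    apply h.mem_V_of_comm hy hv hv1
    calc y * v = y * v * y⁻¹ * y := by group
      _ = v * y := by rw [he]
  have h3 : y * v * y⁻¹ ≠ 1 := by
    intro he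
    apply hv1
    have : v = y⁻¹ * (y * v * y⁻¹) * y := by group
    rw [this, he]; group
  have h4 := hKy v hvK
  obtain ⟨w, hw⟩ : ∃ w, w = y * v * y⁻¹ := ⟨_, rfl⟩
  rw [← hw] at h1 h2 h3 h4
  have hzτ : z ∈ K ∧ τ ∈ K := by
    have c1 : z ∈ K → z * τ ∈ K → z ∈ K ∧ τ ∈ K := by
      intro a b
      refine ⟨a, ?_⟩
      have : τ = z⁻¹ * (z * τ) := by group
      rw [this]; exact K.mul_mem (K.inv_mem a) b
    have c2 : τ ∈ K → z * τ ∈ K → z ∈ K ∧ τ ∈ K := by
      intro a b
      refine ⟨?_, a⟩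
      have : z = (z * τ) * τ⁻¹ := by group
      rw [this]; exact K.mul_mem b (K.inv_mem a)
    rcases D.mem_V.1 hv with e1 | e1 | e1 | e1 <;>
      rcases D.mem_V.1 h1 with e2 | e2 | e2 | e2
    all_goals first
      | exact absurd e1 hv1
      | exact absurd e2 h3
      | exact absurd (e2.trans e1.symm) h2
      | (rw [e1] at hvK; rw [e2] at h4; first
          | exact ⟨hvK, h4⟩
          | exact ⟨h4, hvK⟩
          | exact c1 hvK h4
          | exact c1 h4 hvK
          | exact c2 hvK h4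
          | exact c2 h4 hvK)
  intro g hg
  rcases D.mem_V.1 hg with rfl | rfl | rfl | rfl
  · exact K.one_mem
  · exact hzτ.1
  · exact hzτ.2
  · exact K.mul_mem hzτ.1 hzτ.2

end MixedData

end D8C

end Cfsg.Agent.Lib.Helper37
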