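import Mathlib
import Cfsg.Agent.Lib.Helper37.D8Mixed
import Cfsg.Agent.S1012

set_option autoImplicit false

/-! Mixed case, first alternative: `V` is normal and `G ≅ S₄`. -/

namespace Cfsg.Agent.Lib.Helper37

open Cfsg.Agent.Lib.Helper25 (Dih)

variable {G : Type*} [Group G]

namespace D8C

variable {z σ τ : G}

namespace MixedData

variable {D : D8C z σ τ} {M : Subgroup G} {x : G}

/-- the Sylow 2-subgroup `V` of `N = ⟨z^G⟩`. -/
theorem exists_sylow_ncl [Finite G] (h : D.MixedData M x) :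
    ∃ PN : Sylow 2 (Subgroup.normalClosure ({z} : Set G)),
      ∀ n : Subgroup.normalClosure ({z} : Set G), n ∈ PN ↔ (n : G) ∈ D.V := by
  have : Fact (Nat.Prime 2) := ⟨Nat.prime_two⟩
  obtain ⟨P, hP⟩ := D.exists_sylow
  obtain ⟨PN, hPN⟩ := Cfsg.Agent.Lib.Helper52.exists_sylow_inf_normal P
    (Subgroup.normalClosure ({z} : Set G))
  refine ⟨PN, fun n => ?_⟩
  have h1 : n ∈ PN ↔ n ∈ (PN : Subgroup _) := Iff.rfl
  rw [h1, hPN, hP, Subgroup.mem_subgroupOf, ← h.inf_ncl]
  exact ⟨fun hn => ⟨hn, n.2⟩, fun hn => hn.1⟩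

theorem ncl_eq_V_of [Finite G] (h : D.MixedData M x)
    (hA : ∀ y ∈ Subgroup.normalClosure ({z} : Set G), y ∈ Subgroup.normalizer (D.V : Set G) →
      y ∈ D.V) : Subgroup.normalClosure ({z} : Set G) = D.V := by
  have : Fact (Nat.Prime 2) := ⟨Nat.prime_two⟩
  obtain ⟨PN, hPN⟩ := h.exists_sylow_ncl
  have hP : Subgroup.normalizer (PN : Set (Subgroup.normalClosure ({z} : Set G))) ≤
      Subgroup.centralizer (PN : Set (Subgroup.normalClosure ({z} : Set G))) := by
    intro n hn0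
    have hn : n ∈ Subgroup.normalizer
      ((PN : Subgroup (Subgroup.normalClosure ({z} : Set G))) : Set _) := hn0
    rw [Subgroup.mem_normalizer_iff] at hn
    have h1 : (n : G) ∈ D.V := by
      apply hA _ n.2
      rw [Subgroup.mem_normalizer_iff]
      intro g
      constructor
      · intro hg
        have h2 := (hn ⟨g, h.V_le_ncl hg⟩).1 ((hPN _).2 hg)
        exact (hPN _).1 h2
      · intro hg
        have hgN : g ∈ Subgroup.normalClosure ({z} : Set G) := by
          have e : g = (n : G)⁻¹ * ((n : G) * g * (n : G)⁻¹) * (n : G) := by group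
          rw [e]
          exact Subgroup.mul_mem _ (Subgroup.mul_mem _ (Subgroup.inv_mem _ n.2) (h.V_le_ncl hg)) n.2
        have h2 := (hn ⟨g, hgN⟩).2 ((hPN _).2 hg)
        exact (hPN _).1 h2
    rw [Subgroup.mem_centralizer_iff]
    intro p hp
    apply Subtype.ext
    exact D.V_comm ((hPN p).1 hp) h1
  have hc := MonoidHom.ker_transferSylow_isComplement' PN hP
  obtain ⟨K₀, hK₀⟩ : ∃ K₀, K₀ = (MonoidHom.transferSylow PN hP).ker := ⟨_, rfl⟩
  have hK₀n : K₀.Normal := by rw [hK₀]; infer_instance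
  rw [← hK₀] at hc
  have hodd : Odd (Nat.card K₀) := by
    rw [← hc.index_eq_card, ← Nat.not_even_iff_odd, even_iff_two_dvd]
    exact PN.not_dvd_index
  have hbot : K₀.map (Subgroup.normalClosure ({z} : Set G)).subtype = ⊥ := by
    apply D.odd_trivial D.dih.τ_mem D.τ_not_mem h.x1
    · rw [Subgroup.card_map_of_injective (Subgroup.subtype_injective _)]; exact hodd
    · rintro _ ⟨k, hk, rfl⟩
      exact ⟨⟨z, h.V_le_ncl D.z_mem_V⟩ * k * ⟨z, h.V_le_ncl D.z_mem_V⟩⁻¹,
        hK₀n.conj_mem k hk _, rfl⟩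
    · rintro _ ⟨k, hk, rfl⟩
      exact ⟨⟨τ, h.V_le_ncl D.τ_mem_V⟩ * k * ⟨τ, h.V_le_ncl D.τ_mem_V⟩⁻¹,
        hK₀n.conj_mem k hk _, rfl⟩
  rw [Subgroup.map_eq_bot_iff_of_injective _ (Subgroup.subtype_injective _)] at hbot
  rw [hbot, Subgroup.isComplement'_bot_left] at hc
  apply le_antisymm _ h.V_le_ncl
  intro n hn
  apply (hPN ⟨n, hn⟩).1
  show (⟨n, hn⟩ : Subgroup.normalClosure ({z} : Set G)) ∈ (PN : Subgroup _)
  rw [hc]; trivial

/-- the conjugates of `z` under a subgroup normalizing `V` lie among the involutions of `V`. -/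
theorem orbit_subset [Finite G] (_h : D.MixedData M x) (B : Subgroup G)
    (hB : B ≤ Subgroup.normalizer (D.V : Set G)) :
    {w : G | ∃ b ∈ B, b * z * b⁻¹ = w} ⊆ {z, τ, z * τ} := by
  rintro w ⟨b, hb, rfl⟩
  have h1 : b * z * b⁻¹ ∈ D.V := (Subgroup.mem_normalizer_iff.1 (hB hb) z).1 D.z_mem_V
  have h2 : b * z * b⁻¹ ≠ 1 := by
    intro he
    apply D.z_ne
    have : z = b⁻¹ * (b * z * b⁻¹) * b := by group
    rw [this, he]; group
  rcases D.mem_V.1 h1 with e | e | e | e
  · exact absurd e h2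
  · rw [e]; simp
  · rw [e]; simp
  · rw [e]; simp

theorem card_of_V_normal [Finite G] (h : D.MixedData M x)
    (hV : Subgroup.normalizer (D.V : Set G) = ⊤) : Nat.card G = 24 := by
  have h1 := card_eq_conj_orbit (⊤ : Subgroup G) z
  have h2 : {w : G | ∃ b ∈ (⊤ : Subgroup G), b * z * b⁻¹ = w} = {z, τ, z * τ} := by
    apply Set.Subset.antisymm (h.orbit_subset ⊤ (by rw [hV]))
    intro w hw
    have hwV : w ∈ D.V := by
      rw [D.mem_V]
      simp only [Set.mem_insert_iff, Set.mem_singleton_iff] at hw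
      exact Or.inr hw
    have hw1 : w ≠ 1 := by
      simp only [Set.mem_insert_iff, Set.mem_singleton_iff] at hw
      rcases hw with e | e | e <;> rw [e]
      · exact D.z_ne
      · exact D.τ_ne
      · exact D.zτ_ne
    obtain ⟨g, hg⟩ := h.V_fus hwV hw1
    exact ⟨g, Subgroup.mem_top g, hg⟩
  rw [h2, D.ncard_invol, top_inf_eq, D.card_T, Subgroup.card_top] at h1
  omega

theorem no_order_six [Finite G] (h : D.MixedData M x)
    (hV : Subgroup.normalizer (D.V : Set G) = ⊤) (w : G) : orderOf w ≠ 6 := by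
  intro hw
  obtain ⟨P, hP⟩ := D.exists_sylow
  have hv2 : orderOf (w ^ 3) = 2 := by
    rw [orderOf_pow_of_dvd (by norm_num) (by rw [hw]; norm_num), hw]
  have hy3 : orderOf (w ^ 2) = 3 := by
    rw [orderOf_pow_of_dvd (by norm_num) (by rw [hw]; norm_num), hw]
  obtain ⟨k, hk⟩ := Cfsg.Agent.Lib.Helper25.exists_conj_mem_sylow P
    (Cfsg.Agent.Lib.Helper25.isPGroup_zpowers_of_orderOf (x := w ^ 3) (k := 1) (by rw [hv2, pow_one]))
  have h3 := hk _ (Subgroup.mem_zpowers _)
  rw [hP] at h3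
  obtain ⟨v, hv⟩ : ∃ v, v = k * w ^ 3 * k⁻¹ := ⟨_, rfl⟩
  obtain ⟨y, hy⟩ : ∃ y, y = k * w ^ 2 * k⁻¹ := ⟨_, rfl⟩
  rw [← hv] at h3
  have hyo : orderOf y = 3 := by
    rw [hy, ← hy3]
    exact orderOf_injective (MulAut.conj k).toMonoidHom (MulAut.conj k).injective (w ^ 2)
  have hvo : orderOf v = 2 := by
    rw [hv, ← hv2]
    exact orderOf_injective (MulAut.conj k).toMonoidHom (MulAut.conj k).injective (w ^ 3)
  have hy1 : y ≠ 1 := by
    intro e
    rw [e, orderOf_one] at hyo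
    omega
  have hv1 : v ≠ 1 := by
    intro e
    rw [e, orderOf_one] at hvo
    omega
  have hyodd : Odd (orderOf y) := by rw [hyo]; decide
  have hvy : v * y = y * v := by
    rw [hv, hy]
    have e1 : k * w ^ 3 * k⁻¹ * (k * w ^ 2 * k⁻¹) = k * (w ^ 3 * w ^ 2) * k⁻¹ := by group
    have e2 : k * w ^ 2 * k⁻¹ * (k * w ^ 3 * k⁻¹) = k * (w ^ 2 * w ^ 3) * k⁻¹ := by group
    rw [e1, e2, ← pow_add, ← pow_add]
  have hvz : v * z = z * v := D.mem_iff.1 h3
  -- z' = y z y⁻¹
  have hyn : y ∈ Subgroup.normalizer (D.V : Set G) := by rw [hV]; trivial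
  have hz' : y * z * y⁻¹ ∈ D.V := (Subgroup.mem_normalizer_iff.1 hyn z).1 D.z_mem_V
  have hz'1 : y * z * y⁻¹ ≠ 1 := by
    intro he
    apply D.z_ne
    have : z = y⁻¹ * (y * z * y⁻¹) * y := by group
    rw [this, he]; group
  have hz'z : y * z * y⁻¹ ≠ z := by
    intro he
    apply hy1
    apply D.eq_one_of_odd (h := 1) hyodd
    have e1 : (1 : G) * z * (1 : G)⁻¹ = z := by group
    rw [e1]
    calc z * y = (y * z * y⁻¹) * y := by rw [he]
      _ = y * z := by group
  have hvz' : v * (y * z * y⁻¹) = (y * z * y⁻¹) * v := by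
    calc v * (y * z * y⁻¹) = (v * y) * z * y⁻¹ := by group
      _ = y * (v * z) * y⁻¹ := by rw [hvy]; group
      _ = y * z * (v * y⁻¹) := by rw [hvz]; group
      _ = y * z * (y⁻¹ * v) := by
          have : v * y⁻¹ = y⁻¹ * v := by
            calc v * y⁻¹ = y⁻¹ * (y * v) * y⁻¹ := by group
              _ = y⁻¹ * (v * y) * y⁻¹ := by rw [hvy]
              _ = _ := by group
          rw [this]
      _ = _ := by group
  have hvτ : v * τ = τ * v := by
    rcases D.mem_V.1 hz' with e | e | e | e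
    · exact absurd e hz'1
    · exact absurd e hz'z
    · rwa [e] at hvz'
    · rw [e] at hvz'
      calc v * τ = z⁻¹ * (z * v) * τ := by group
        _ = z⁻¹ * (v * (z * τ)) := by rw [← hvz]; group
        _ = z⁻¹ * ((z * τ) * v) := by rw [hvz']
        _ = _ := by group
  have hvV : v ∈ D.V := ⟨h3, Subgroup.mem_centralizer_singleton_iff.2 hvτ⟩
  obtain ⟨g, hg⟩ := h.V_fus hvV hv1
  apply hy1
  apply D.eq_one_of_odd (h := g) hyodd
  rw [hg, hvy]

theorem iso_S4 [Finite G] (h : D.MixedData M x)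
    (hA : ∀ y ∈ Subgroup.normalClosure ({z} : Set G), y ∈ Subgroup.normalizer (D.V : Set G) →
      y ∈ D.V) : Nonempty (G ≃* Equiv.Perm (Fin 4)) := by
  have h1 := h.ncl_eq_V_of hA
  have hV : Subgroup.normalizer (D.V : Set G) = ⊤ := by
    rw [← h1]
    exact Subgroup.normalizer_eq_top (H := Subgroup.normalClosure ({z} : Set G))
  exact Cfsg.Agent.S1012.result (h.card_of_V_normal hV) (h.no_order_six hV)

end MixedData

end D8C

end Cfsg.Agent.Lib.Helper37
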