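import Mathlib
import Cfsg.Agent.Lib.Helper37.D8MixedA
import Cfsg.Agent.S3278

set_option autoImplicit false

/-! Mixed case, second alternative: `N = ⟨z^G⟩` is simple, `N ≅ A₅` and `G ≅ S₅`. -/

namespace Cfsg.Agent.Lib.Helper37

open Cfsg.Agent.Lib.Helper25 (Dih)
open scoped Pointwise

variable {G : Type*} [Group G]

namespace D8C

variable {z σ τ : G}

namespace MixedData

variable {D : D8C z σ τ} {M : Subgroup G} {x : G}

/-- a subgroup of `N` normalized by `N` and containing `V` is `N`. -/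
theorem ncl_le_of_V_le [Finite G] (h : D.MixedData M x) (K : Subgroup G)
    (hKn : ∀ c ∈ Subgroup.normalClosure ({z} : Set G), ∀ k ∈ K, c * k * c⁻¹ ∈ K)
    (hV : D.V ≤ K) : Subgroup.normalClosure ({z} : Set G) ≤ K := by
  have : Fact (Nat.Prime 2) := ⟨Nat.prime_two⟩
  obtain ⟨P, hP⟩ := D.exists_sylow
  unfold Subgroup.normalClosure
  rw [Subgroup.closure_le]
  intro w hw
  obtain ⟨a, ha, hc⟩ := Group.mem_conjugatesOfSet_iff.1 hw
  rw [Set.mem_singleton_iff] at ha
  subst ha
  obtain ⟨g, hg⟩ := isConj_iff.1 hc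
  obtain ⟨b, hb, c, hc', hbc⟩ := Cfsg.Agent.Lib.Helper52.frattini_elementwise P
    (Subgroup.normalClosure ({a} : Set G)) g⁻¹
  rw [hP, h.inf_ncl] at hb
  have hg' : g = c⁻¹ * b⁻¹ := by
    have : g = (g⁻¹)⁻¹ := by group
    rw [this, hbc]; group
  have h1 : b⁻¹ * a * b⁻¹⁻¹ ∈ D.V :=
    (Subgroup.mem_normalizer_iff.1 (Subgroup.inv_mem _ hb) a).1 D.z_mem_V
  have h2 := hKn c⁻¹ (Subgroup.inv_mem _ hc') _ (hV h1)
  have e : w = c⁻¹ * (b⁻¹ * a * b⁻¹⁻¹) * c⁻¹⁻¹ := by rw [← hg, hg']; group
  show w ∈ K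
  rw [e]; exact h2

theorem simple_ncl [Finite G] (h : D.MixedData M x) {y : G}
    (hyN : y ∈ Subgroup.normalClosure ({z} : Set G))
    (hyn : y ∈ Subgroup.normalizer (D.V : Set G)) (hyV : y ∉ D.V) :
    IsSimpleGroup (Subgroup.normalClosure ({z} : Set G)) := by
  have : Fact (Nat.Prime 2) := ⟨Nat.prime_two⟩
  have hzN : z ∈ Subgroup.normalClosure ({z} : Set G) := h.V_le_ncl D.z_mem_V
  have hτN : τ ∈ Subgroup.normalClosure ({z} : Set G) := h.V_le_ncl D.τ_mem_V
  have : Nontrivial (Subgroup.normalClosure ({z} : Set G)) :=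
    ⟨⟨⟨z, hzN⟩, 1, fun e => D.z_ne (congrArg Subtype.val e)⟩⟩
  obtain ⟨PN, hPN⟩ := h.exists_sylow_ncl
  refine IsSimpleGroup.mk ?_
  intro K hK
  have hconj : ∀ c ∈ Subgroup.normalClosure ({z} : Set G),
      ∀ k ∈ K.map (Subgroup.normalClosure ({z} : Set G)).subtype,
      c * k * c⁻¹ ∈ K.map (Subgroup.normalClosure ({z} : Set G)).subtype := by
    rintro c hc _ ⟨k, hk, rfl⟩
    exact ⟨⟨c, hc⟩ * k * ⟨c, hc⟩⁻¹, hK.conj_mem k hk _, rfl⟩
  by_cases hodd : Odd (Nat.card K)
  · left
    have hbot : K.map (Subgroup.normalClosure ({z} : Set G)).subtype = ⊥ := by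
      apply D.odd_trivial D.dih.τ_mem D.τ_not_mem h.x1
      · rw [Subgroup.card_map_of_injective (Subgroup.subtype_injective _)]; exact hodd
      · exact hconj z hzN
      · exact hconj τ hτN
    rwa [Subgroup.map_eq_bot_iff_of_injective _ (Subgroup.subtype_injective _)] at hbot
  · right
    have h2 : 2 ∣ Nat.card K := by
      rw [Nat.not_odd_iff_even] at hodd
      exact hodd.two_dvd
    obtain ⟨v, hv⟩ := exists_prime_orderOf_dvd_card' 2 h2
    have hv' : orderOf (v : Subgroup.normalClosure ({z} : Set G)) = 2 := by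
      rw [Subgroup.orderOf_coe, hv]
    obtain ⟨k, hk⟩ := Cfsg.Agent.Lib.Helper25.exists_conj_mem_sylow PN
      (Cfsg.Agent.Lib.Helper25.isPGroup_zpowers_of_orderOf
        (x := (v : Subgroup.normalClosure ({z} : Set G))) (k := 1) (by rw [hv', pow_one]))
    have h3 := hk v (Subgroup.mem_zpowers _)
    have h4 : ((k * v * k⁻¹ : Subgroup.normalClosure ({z} : Set G)) : G) ∈ D.V := (hPN _).1 h3
    have h5 : k * v * k⁻¹ ∈ K := hK.conj_mem _ v.2 k
    have h6 : ((k * v * k⁻¹ : Subgroup.normalClosure ({z} : Set G)) : G) ≠ 1 := by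
      intro e
      have e1 : k * (v : Subgroup.normalClosure ({z} : Set G)) * k⁻¹ = 1 := Subtype.ext e
      have e2 : (v : Subgroup.normalClosure ({z} : Set G)) = 1 := by
        have : (v : Subgroup.normalClosure ({z} : Set G)) = k⁻¹ * (k * v * k⁻¹) * k := by group
        rw [this, e1]; group
      rw [e2, orderOf_one] at hv'
      omega
    have h7 := h.V_le_of_inf (h.ncl_le hyN) hyn hyV
      (K.map (Subgroup.normalClosure ({z} : Set G)).subtype) (hconj y hyN) h4 h6 ⟨_, h5, rfl⟩
    have h8 := h.ncl_le_of_V_le _ hconj h7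
    rw [eq_top_iff]
    intro n _
    obtain ⟨m, hm, hmn⟩ := h8 n.2
    have : m = n := Subtype.ext hmn
    rwa [← this]

theorem iso_A5 [Finite G] (h : D.MixedData M x) {y : G}
    (hyN : y ∈ Subgroup.normalClosure ({z} : Set G))
    (hyn : y ∈ Subgroup.normalizer (D.V : Set G)) (hyV : y ∉ D.V) :
    Nonempty (Subgroup.normalClosure ({z} : Set G) ≃* alternatingGroup (Fin 5)) := by
  have := h.simple_ncl hyN hyn hyV
  have hzN : z ∈ Subgroup.normalClosure ({z} : Set G) := h.V_le_ncl D.z_mem_V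
  have hcent : Subgroup.centralizer ({(⟨z, hzN⟩ : Subgroup.normalClosure ({z} : Set G))} : Set _)
      = D.V.subgroupOf (Subgroup.normalClosure ({z} : Set G)) := by
    ext n
    rw [Subgroup.mem_centralizer_singleton_iff, Subgroup.mem_subgroupOf, ← h.inf_ncl]
    constructor
    · intro e
      exact ⟨D.mem_iff.2 (congrArg Subtype.val e), n.2⟩
    · intro e
      exact Subtype.ext (D.mem_iff.1 e.1)
  have hK : IsKleinFour (D.V.subgroupOf (Subgroup.normalClosure ({z} : Set G))) := by
    have hcard : Nat.card (D.V.subgroupOf (Subgroup.normalClosure ({z} : Set G))) = 4 := by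
      rw [Nat.card_congr (Subgroup.subgroupOfEquivOfLe h.V_le_ncl).toEquiv, D.card_V]
    have : Nontrivial (D.V.subgroupOf (Subgroup.normalClosure ({z} : Set G))) := by
      apply (Finite.one_lt_card_iff_nontrivial).1
      rw [hcard]; norm_num
    refine ⟨hcard, ?_⟩
    rw [Monoid.exponent_eq_prime_iff Nat.prime_two]
    intro g hg
    apply orderOf_eq_prime
    · rw [sq]
      apply Subtype.ext
      apply Subtype.ext
      exact D.V_sq (Subgroup.mem_subgroupOf.1 g.2)
    · exact hg
  apply Cfsg.Agent.S3278.result (⟨z, hzN⟩ : Subgroup.normalClosure ({z} : Set G)) _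
    (D.V.subgroupOf (Subgroup.normalClosure ({z} : Set G))) _ hK
  · rw [hcent, Subgroup.relIndex_self]; norm_num
  · rw [hcent]
    have : (D.V.subgroupOf (Subgroup.normalClosure ({z} : Set G))).subgroupOf
      (D.V.subgroupOf (Subgroup.normalClosure ({z} : Set G))) = ⊤ := Subgroup.subgroupOf_self _
    rw [this]; infer_instance
  · rw [Subgroup.orderOf_mk, D.ordz]
  · rw [hcent]

/-- `|N_N(V)| = 12`. -/
theorem card_normalizer_ncl [Finite G] (h : D.MixedData M x) {y : G}
    (hyN : y ∈ Subgroup.normalClosure ({z} : Set G))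
    (hyn : y ∈ Subgroup.normalizer (D.V : Set G)) (hyV : y ∉ D.V)
    (hcard : Nat.card (Subgroup.normalClosure ({z} : Set G)) = 60) :
    Nat.card (Subgroup.normalClosure ({z} : Set G) ⊓ Subgroup.normalizer (D.V : Set G) :
      Subgroup G) = 12 := by
  obtain ⟨B, hB⟩ : ∃ B, B = Subgroup.normalClosure ({z} : Set G) ⊓
    Subgroup.normalizer (D.V : Set G) := ⟨_, rfl⟩
  rw [← hB]
  have h1 := card_eq_conj_orbit B z
  have h2 : B ⊓ Subgroup.centralizer ({z} : Set G) = D.V := by
    apply le_antisymm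
    · intro g hg
      rw [← h.inf_ncl]
      rw [hB] at hg
      exact ⟨hg.2, hg.1.1⟩
    · rw [hB]
      exact le_inf (le_inf h.V_le_ncl Subgroup.le_normalizer) D.V_le
  rw [h2, D.card_V] at h1
  have h3 : {w : G | ∃ b ∈ B, b * z * b⁻¹ = w}.ncard ≤ 3 := by
    rw [← D.ncard_invol]
    exact Set.ncard_le_ncard (h.orbit_subset B (by rw [hB]; exact inf_le_right)) (Set.toFinite _)
  have h4 : 2 ≤ {w : G | ∃ b ∈ B, b * z * b⁻¹ = w}.ncard := by
    have hne : z ≠ y * z * y⁻¹ := by
      intro e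
      apply hyV
      apply h.mem_V_of_comm (h.ncl_le hyN) D.z_mem_V D.z_ne
      calc y * z = y * z * y⁻¹ * y := by group
        _ = z * y := by rw [← e]
    rw [← Set.ncard_pair hne]
    apply Set.ncard_le_ncard _ (Set.toFinite _)
    intro w hw
    simp only [Set.mem_insert_iff, Set.mem_singleton_iff] at hw
    rcases hw with e | e
    · exact ⟨1, B.one_mem, by rw [e]; group⟩
    · exact ⟨y, by rw [hB]; exact ⟨hyN, hyn⟩, e.symm⟩
  have h5 : Nat.card B ∣ 60 := by
    rw [← hcard]
    exact Subgroup.card_dvd_of_le (by rw [hB]; exact inf_le_left)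
  have h6 : {w : G | ∃ b ∈ B, b * z * b⁻¹ = w}.ncard = 2 ∨
      {w : G | ∃ b ∈ B, b * z * b⁻¹ = w}.ncard = 3 := by omega
  rcases h6 with e | e
  · rw [e] at h1
    rw [h1] at h5
    norm_num at h5
  · rw [e] at h1
    omega

theorem iso_S5 [Finite G] (h : D.MixedData M x) {y : G}
    (hyN : y ∈ Subgroup.normalClosure ({z} : Set G))
    (hyn : y ∈ Subgroup.normalizer (D.V : Set G)) (hyV : y ∉ D.V) :
    Nonempty (G ≃* Equiv.Perm (Fin 5)) := by
  have : Fact (Nat.Prime 2) := ⟨Nat.prime_two⟩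
  have hsimple := h.simple_ncl hyN hyn hyV
  obtain ⟨e⟩ := h.iso_A5 hyN hyn hyV
  have hcard : Nat.card (Subgroup.normalClosure ({z} : Set G)) = 60 := by
    rw [Nat.card_congr e.toEquiv, nat_card_alternatingGroup]
    simp [Nat.factorial]
  have h12 := h.card_normalizer_ncl hyN hyn hyV hcard
  obtain ⟨PN, hPN⟩ := h.exists_sylow_ncl
  -- number of Sylow 2-subgroups of N
  have hnorm : (Subgroup.normalizer (PN : Set (Subgroup.normalClosure ({z} : Set G)))).map
      (Subgroup.normalClosure ({z} : Set G)).subtype =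
      Subgroup.normalClosure ({z} : Set G) ⊓ Subgroup.normalizer (D.V : Set G) := by
    ext g
    constructor
    · rintro ⟨n, hn0, rfl⟩
      have hn : n ∈ Subgroup.normalizer
        ((PN : Subgroup (Subgroup.normalClosure ({z} : Set G))) : Set _) := hn0
      rw [Subgroup.mem_normalizer_iff] at hn
      refine ⟨n.2, ?_⟩
      apply Subgroup.mem_normalizer_iff.2
      intro g
      constructor
      · intro hg
        have h2 := (hn ⟨g, h.V_le_ncl hg⟩).1 ((hPN _).2 hg)
        exact (hPN _).1 h2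
      · intro hg
        have hgN : g ∈ Subgroup.normalClosure ({z} : Set G) := by
          have e : g = (n : G)⁻¹ * ((n : G) * g * (n : G)⁻¹) * (n : G) := by group
          rw [e]
          exact Subgroup.mul_mem _ (Subgroup.mul_mem _ (Subgroup.inv_mem _ n.2) (h.V_le_ncl hg)) n.2
        have h2 := (hn ⟨g, hgN⟩).2 ((hPN _).2 hg)
        exact (hPN _).1 h2
    · rintro ⟨hgN, hgn⟩
      refine ⟨⟨g, hgN⟩, ?_, rfl⟩
      show (⟨g, hgN⟩ : Subgroup.normalClosure ({z} : Set G)) ∈ Subgroup.normalizer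
        ((PN : Subgroup (Subgroup.normalClosure ({z} : Set G))) : Set _)
      rw [Subgroup.mem_normalizer_iff]
      intro m
      have h1 := Subgroup.mem_normalizer_iff.1 hgn (m : G)
      exact ⟨fun hm => (hPN _).2 (h1.1 ((hPN _).1 hm)), fun hm => (hPN _).2 (h1.2 ((hPN _).1 hm))⟩
  have hsyl : Nat.card (Sylow 2 (Subgroup.normalClosure ({z} : Set G))) = 5 := by
    rw [Sylow.card_eq_index_normalizer PN]
    have h1 := Subgroup.card_mul_index
      (Subgroup.normalizer (PN : Set (Subgroup.normalClosure ({z} : Set G))))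
    rw [hcard, ← Subgroup.card_map_of_injective (Subgroup.subtype_injective _), hnorm, h12] at h1
    omega
  -- the action
  let φ : G →* Equiv.Perm (Sylow 2 (Subgroup.normalClosure ({z} : Set G))) :=
    (MulAction.toPermHom (MulAut (Subgroup.normalClosure ({z} : Set G)))
      (Sylow 2 (Subgroup.normalClosure ({z} : Set G)))).comp MulAut.conjNormal
  have hφ : ∀ (g : G) (Q : Sylow 2 (Subgroup.normalClosure ({z} : Set G))),
      φ g Q = (MulAut.conjNormal g : MulAut (Subgroup.normalClosure ({z} : Set G))) • Q :=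
    fun g Q => rfl
  have hker : φ.ker = ⊥ := by
    by_contra hne
    have h1 := h.ncl_le_of_normal φ.ker hne
    have hPNn : (PN : Subgroup (Subgroup.normalClosure ({z} : Set G))).Normal := by
      constructor
      intro p hp n
      have h2 : φ (n : G) = 1 := h1 n.2
      have h3 : φ (n : G) PN = PN := by rw [h2]; rfl
      rw [hφ] at h3
      have h4 : (MulAut.conjNormal (n : G) : MulAut (Subgroup.normalClosure ({z} : Set G))) • p ∈
          (MulAut.conjNormal (n : G) : MulAut (Subgroup.normalClosure ({z} : Set G))) •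
            (PN : Subgroup (Subgroup.normalClosure ({z} : Set G))) :=
        Subgroup.smul_mem_pointwise_smul _ _ _ hp
      rw [← Sylow.pointwise_smul_def, h3] at h4
      have h5 : (MulAut.conjNormal (n : G) : MulAut (Subgroup.normalClosure ({z} : Set G))) • p
          = n * p * n⁻¹ := by
        apply Subtype.ext
        rw [MulAut.smul_def, MulAut.conjNormal_apply]
        rfl
      rwa [h5] at h4
    rcases hsimple.eq_bot_or_eq_top_of_normal _ hPNn with hb | ht
    · have : (⟨z, h.V_le_ncl D.z_mem_V⟩ : Subgroup.normalClosure ({z} : Set G)) ∈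
          (PN : Subgroup (Subgroup.normalClosure ({z} : Set G))) := (hPN _).2 D.z_mem_V
      rw [hb, Subgroup.mem_bot] at this
      exact D.z_ne (congrArg Subtype.val this)
    · have : (⟨y, hyN⟩ : Subgroup.normalClosure ({z} : Set G)) ∈
          (PN : Subgroup (Subgroup.normalClosure ({z} : Set G))) := by rw [ht]; trivial
      exact hyV ((hPN _).1 this)
  have hinj : Function.Injective φ := (MonoidHom.ker_eq_bot_iff φ).1 hker
  have hG : 120 ≤ Nat.card G := by
    have h1 := Subgroup.card_mul_index M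
    rw [h.index] at h1
    have h2 : Nat.card (Subgroup.normalClosure ({z} : Set G)) ≤ Nat.card M :=
      Nat.le_of_dvd Nat.card_pos (Subgroup.card_dvd_of_le h.ncl_le)
    omega
  have hbij : Function.Bijective φ := by
    apply hinj.bijective_of_nat_card_le
    rw [Nat.card_perm, hsyl]
    exact hG
  exact ⟨(MulEquiv.ofBijective φ hbij).trans (Equiv.permCongrHom (Finite.equivFinOfCardEq hsyl))⟩

end MixedData

/-- the mixed case. -/
theorem Mixed.iso [Finite G] {D : D8C z σ τ} (h : D.Mixed) :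
    Nonempty (G ≃* Equiv.Perm (Fin 4)) ∨ Nonempty (G ≃* Equiv.Perm (Fin 5)) := by
  obtain ⟨M, x, hd⟩ := h.exists_data
  by_cases hA : ∀ y ∈ Subgroup.normalClosure ({z} : Set G),
      y ∈ Subgroup.normalizer (D.V : Set G) → y ∈ D.V
  · exact Or.inl (hd.iso_S4 hA)
  · push Not at hA
    obtain ⟨y, h1, h2, h3⟩ := hA
    exact Or.inr (hd.iso_S5 h1 h2 h3)

end D8C

end Cfsg.Agent.Lib.Helper37
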