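import Mathlib
import Cfsg.Agent.Lib.Helper37.D8MixedB
import Cfsg.Agent.S0848
import Cfsg.Agent.S0495
import Cfsg.Agent.S0255

set_option autoImplicit false

/-! Groups with an involution whose centralizer is dihedral of order 8: assembly, conditional on
the identification of the simple groups of order 360. -/

namespace Cfsg.Agent.Lib.Helper37

variable {G : Type*} [Group G]

theorem center_SL3_two :
    Subgroup.center (Matrix.SpecialLinearGroup (Fin 3) (ZMod 2)) = ⊥ := by
  rw [Subgroup.eq_bot_iff_forall]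
  intro A hA
  obtain ⟨r, hr, hrA⟩ := Matrix.SpecialLinearGroup.mem_center_iff.1 hA
  have h0 : ∀ r : ZMod 2, r ^ Fintype.card (Fin 3) = 1 → r = 1 := by decide
  have h1 : r = 1 := h0 r hr
  apply Subtype.ext
  rw [← hrA, h1]
  simp

theorem psl3_two_iso : Nonempty (Matrix.ProjectiveSpecialLinearGroup (Fin 3) (ZMod 2) ≃*
    Matrix.SpecialLinearGroup (Fin 3) (ZMod 2)) :=
  ⟨(QuotientGroup.quotientMulEquivOfEq center_SL3_two).trans QuotientGroup.quotientBot⟩

namespace D8C

variable {z σ τ : G}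

/-- all involutions fused: `G` is `PSL₂(7)` or simple of order 360. -/
theorem AllFus.cases [Finite G] {D : D8C z σ τ} (h : D.AllFus)
    (e : Subgroup.centralizer ({z} : Set G) ≃* DihedralGroup 4) :
    IsSimpleGroup G ∧ (Nonempty (G ≃* Matrix.ProjectiveSpecialLinearGroup (Fin 2) (ZMod 7)) ∨
      Nat.card G = 360) := by
  have hs := h.simple
  refine ⟨hs, ?_⟩
  have : Fact (Nat.Prime 7) := ⟨by norm_num⟩
  rcases Cfsg.Agent.S0848.result h.perfect z D.ordz e with h1 | h1
  · exact Or.inl (Cfsg.Agent.S0495.result h1 (F := ZMod 7) (ZMod.card 7))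
  · exact Or.inr h1

theorem fus_of_fus_mul [Finite G] (D : D8C z σ τ) {u : G}
    (hu : u ∈ Subgroup.centralizer ({z} : Set G)) (hun : u ∉ Subgroup.zpowers σ)
    (h : ∃ g : G, g * z * g⁻¹ = z * u) : ∃ g : G, g * z * g⁻¹ = u := by
  have h1 : z * u ∈ Subgroup.centralizer ({z} : Set G) :=
    Subgroup.mul_mem _ (D.mem_iff.2 rfl) hu
  have h2 : z * u ∉ Subgroup.zpowers σ := by
    intro hm
    apply hun
    have : u = z⁻¹ * (z * u) := by group
    rw [this]
    exact Subgroup.mul_mem _ (Subgroup.inv_mem _ D.z_mem_zp) hm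
  have h3 := D.fus_mul h1 h2 h
  rwa [← mul_assoc, D.zz, one_mul] at h3

/-- the four cases. -/
theorem main_cases [Finite G] (D : D8C z σ τ) :
    Subgroup.centralizer ({z} : Set G) ⊔ Cfsg.oddCore G = ⊤ ∨
      Nonempty (G ≃* Equiv.Perm (Fin 4)) ∨ Nonempty (G ≃* Equiv.Perm (Fin 5)) ∨ D.AllFus := by
  by_cases h1 : ∃ g : G, g * z * g⁻¹ = τ <;> by_cases h2 : ∃ g : G, g * z * g⁻¹ = σ * τ
  · exact Or.inr (Or.inr (Or.inr ⟨h1, h2⟩))
  · rcases (Mixed.iso (D := D) ⟨h1, h2⟩) with h | h
    · exact Or.inr (Or.inl h)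
    · exact Or.inr (Or.inr (Or.inl h))
  · have hm : D.swap.Mixed := by
      refine ⟨h2, ?_⟩
      intro h3
      apply h1
      apply D.fus_of_fus_mul D.dih.τ_mem D.τ_not_mem
      rwa [← mul_assoc, D.σσ] at h3
    rcases hm.iso with h | h
    · exact Or.inr (Or.inl h)
    · exact Or.inr (Or.inr (Or.inl h))
  · left
    apply D.zstar_case
    intro g hg
    have h3 : orderOf (g * z * g⁻¹) = 2 := by
      rw [← D.ordz]
      exact orderOf_injective (MulAut.conj g).toMonoidHom (MulAut.conj g).injective z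
    rcases D.invol_cases hg h3 with h4 | h4
    · exact h4
    · exfalso
      rcases D.not_mem_cases hg h4 with e | e | e | e
      · exact h1 ⟨g, e⟩
      · exact h2 ⟨g, e⟩
      · exact h1 (D.fus_of_fus_mul D.dih.τ_mem D.τ_not_mem ⟨g, e⟩)
      · exact h2 (D.fus_of_fus_mul D.στ_mem D.στ_not_mem ⟨g, e⟩)

end D8C

end Cfsg.Agent.Lib.Helper37
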