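import Mathlib
import Cfsg.Agent.Lib.Helper37.FrakLR
import Cfsg.Agent.Lib.Helper7.SL2Unip
import Cfsg.Agent.Lib.Helper14.QuadPair

set_option autoImplicit false

/-! `RStar` for `SL₂(q)` with respect to a subgroup of order `q`. -/

namespace Cfsg.Agent.Lib.Helper37

open Cfsg Matrix Cfsg.Agent.Lib.Helper46 Cfsg.Agent.Lib.Helper7

variable {F : Type*} [Field F]

theorem sl2_pow_char_of_tr (p : ℕ) [Fact p.Prime] [CharP F p] {z : SpecialLinearGroup (Fin 2) F}
    (hz : tr z = 2) : z ^ p = 1 := by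
  obtain ⟨g, a, hg⟩ := exists_conj_uu hz
  have h1 : (g * z * g⁻¹) ^ p = 1 := by
    rw [hg, uu_pow, CharP.cast_eq_zero, zero_mul, uu_zero]
  rw [conj_pow] at h1
  have : z ^ p = g⁻¹ * (g * z ^ p * g⁻¹) * g := by group
  rw [this, h1]; group

theorem sl2_decomp {z : SpecialLinearGroup (Fin 2) F}
    (hc : z ∉ Subgroup.center (SpecialLinearGroup (Fin 2) F)) :
    ∃ t₁ t₂ : SpecialLinearGroup (Fin 2) F, tr t₁ = 2 ∧ tr t₂ = 2 ∧ z = t₁ * t₂ := by
  obtain ⟨P, hP⟩ := exists_conj_10_ne_zero z hc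
  set z' := P * z * P⁻¹ with hz'
  set c := (z' : Matrix (Fin 2) (Fin 2) F) 1 0 with hcdef
  set a := (2 - tr z') / c with ha
  have h1 : tr (uu a * z') = 2 := by
    rw [tr_uu_mul, ← hcdef, ha, div_mul_cancel₀ _ hP]; ring
  refine ⟨P⁻¹ * (uu a)⁻¹ * P⁻¹⁻¹, P⁻¹ * (uu a * z') * P⁻¹⁻¹, ?_, ?_, ?_⟩
  · rw [tr_conj, tr_inv, tr_uu]
  · rw [tr_conj, h1]
  · rw [hz']; group

theorem rstar_SL2 [Fintype F] {p : ℕ} [Fact p.Prime] [CharP F p]
    (T : Subgroup (SpecialLinearGroup (Fin 2) F)) (hT : Nat.card T = Fintype.card F) :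
    RStar p T := by
  obtain ⟨k, hp, hk⟩ := FiniteField.card F p
  have hTp : IsPGroup p T := IsPGroup.of_card (n := k) (by rw [hT, hk])
  obtain ⟨P, hP⟩ := hTp.exists_le_sylow
  have hTP : T = (P : Subgroup _) :=
    Subgroup.eq_of_le_of_card_ge hP (by rw [hT]; exact (card_sylow_SL2 p P).le)
  rw [hTP]
  apply rstar_of_sylow
  intro x hx
  have htr : ∀ z : SpecialLinearGroup (Fin 2) F, tr z ≠ 2 → ¬ ∃ k : ℕ, z ^ (p ^ k) = 1 := by
    rintro z hz ⟨k, hk⟩
    exact hz (Cfsg.Agent.Lib.Helper14.trace_eq_two_of_pow_char_pow_eq_one p z hk)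
  have hpe : ∀ z : SpecialLinearGroup (Fin 2) F, tr z = 2 → ∃ k : ℕ, z ^ (p ^ k) = 1 :=
    fun z hz => ⟨1, by rw [pow_one]; exact sl2_pow_char_of_tr p hz⟩
  have hxt : tr x ≠ 2 := fun h => hx (hpe x h)
  by_cases hc : x ∈ Subgroup.center (SpecialLinearGroup (Fin 2) F)
  · obtain ⟨h01, h10, h00⟩ := (mem_center_iff2 x).1 hc
    have hm1 : (x : Matrix (Fin 2) (Fin 2) F) 0 0 = -1 := by
      rcases center_entry x hc with h | h
      · exfalso
        apply hxt
        rw [tr, ← h00, h]; norm_num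
      · exact h
    have h2 : (2 : F) ≠ 0 := by
      intro h2
      apply hxt
      rw [tr, ← h00, hm1]
      linear_combination (-2 : F) * h2
    have hz01 : ((x * uu 1 : SpecialLinearGroup (Fin 2) F) : Matrix (Fin 2) (Fin 2) F) 0 1 = -1 := by
      rw [mul_01]; simp [uu, hm1, h01]
    have hzc : x * uu 1 ∉ Subgroup.center (SpecialLinearGroup (Fin 2) F) := by
      intro h
      have := ((mem_center_iff2 _).1 h).1
      rw [hz01] at this
      exact neg_ne_zero.2 one_ne_zero this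
    have hzt : tr (x * uu 1) ≠ 2 := by
      rw [tr, mul_00, mul_11]
      simp only [uu, mk2_00, mk2_01, mk2_10, mk2_11, h10, ← h00, hm1]
      intro h
      apply h2
      have h4 : (2 : F) * 2 = 0 := by linear_combination -h
      rcases mul_eq_zero.1 h4 with h | h <;> exact h
    obtain ⟨t₁, t₂, h₁, h₂, he⟩ := sl2_decomp hzc
    refine ⟨1, uu 1, t₁, t₂, hpe _ (tr_uu 1), hpe _ h₁, hpe _ h₂, ?_, by rw [pow_one]; exact he,
      by rw [pow_one]; exact htr _ hzt⟩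
    rw [pow_one]
    exact ((Subgroup.mem_center_iff.1 hc) (uu 1)).symm
  · obtain ⟨t₁, t₂, h₁, h₂, he⟩ := sl2_decomp hc
    exact ⟨1, 1, t₁, t₂, ⟨0, by simp⟩, hpe _ h₁, hpe _ h₂, by simp, by simpa using he,
      by simpa using hx⟩

end Cfsg.Agent.Lib.Helper37
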