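import Mathlib
import Cfsg.Agent.Lib.Helper37.FrakLSL2
import Cfsg.Agent.Lib.Helper37.FrakLSz
import Cfsg.Agent.Lib.Helper53.PRed

set_option autoImplicit false

/-! From `L ∈ 𝔏_G(Y_M)` to the abstract set-up `FL` and the property `RStar`. -/

namespace Cfsg.Agent.Lib.Helper37

open Cfsg Cfsg.Agent.Lib.Helper53

variable {G : Type*} [Group G]

local notation "cj(" g ", " Q ")" => Subgroup.map (MulEquiv.toMonoidHom (MulAut.conj g)) Q

theorem charP_of_card_pow {F : Type*} [Field F] [Fintype F] {p n : ℕ} [hp : Fact p.Prime]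
    (hF : Fintype.card F = p ^ n) : CharP F p := by
  obtain ⟨r, hr⟩ := CharP.exists F
  obtain ⟨k, hprime, hk⟩ := FiniteField.card F r
  have h1 : r ∣ p ^ n := by
    rw [← hF, hk]
    exact dvd_pow_self r k.ne_zero
  have h2 : r ∣ p := hprime.dvd_of_dvd_pow h1
  have h3 : r = p := (Nat.prime_dvd_prime_iff_eq hprime hp.out).1 h2
  exact h3 ▸ hr

theorem frakL_FL [Finite G] {p : ℕ} [Fact p.Prime] {M L : Subgroup G} (hL : IsInFrakL p M L) :
    FL ((largestPReducedOf p M).subgroupOf L) (pCore p ↥L) := by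
  obtain ⟨hYL, hA, hAN, hmin, -, ⟨hlt, hmx⟩, -⟩ := hL
  set Y := largestPReducedOf p M with hY
  have hel : IsElementaryAbelian p Y := (isPRed_largest p M).elemAb
  have hnz : Subgroup.normalizer ((Y.subgroupOf L : Subgroup ↥L) : Set ↥L) =
      (Subgroup.normalizer (Y : Set G)).subgroupOf L := (Subgroup.subgroupOf_normalizer_eq hYL).symm
  refine ⟨pCore_normal p ↥L, ?_, ?_, ?_, ?_, ?_, ?_⟩
  · intro x hx y hy
    have h1 := (elemAb_iff.1 hel).1 hy
    apply Subtype.ext
    exact (Subgroup.mem_centralizer_iff.1 h1 x hx)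
  · intro N hN hle
    have h1 : pCore p ↥L = Subgroup.normalClosure
        (((Y ⊓ pCoreOf p L).subgroupOf L : Subgroup ↥L) : Set ↥L) := by
      apply Subgroup.map_injective L.subtype_injective
      exact hA
    rw [h1]
    apply Subgroup.normalClosure_le_normal
    have h2 : (Y ⊓ pCoreOf p L).subgroupOf L = Y.subgroupOf L ⊓ pCore p ↥L := by
      rw [pCore_eq_subgroupOf]
      ext x
      simp [Subgroup.mem_subgroupOf]
    rw [h2]
    exact hle
  · rw [hnz, pCore_eq_subgroupOf]
    exact Subgroup.subgroupOf_mono L hAN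
  · intro N hN hle
    rw [eq_top_iff, ← hmin.1]
    exact Subgroup.normalClosure_le_normal hle
  · rw [hnz]
    intro he
    apply hlt.ne
    apply le_antisymm inf_le_left
    apply le_inf le_rfl
    rwa [Subgroup.subgroupOf_eq_top] at he
  · intro X hX hne
    rw [hnz]
    have h1 : Y ≤ X.map L.subtype := by
      intro y hy
      exact ⟨⟨y, hYL hy⟩, hX (Subgroup.mem_subgroupOf.2 hy), rfl⟩
    have h2 : X.map L.subtype < L := by
      refine lt_of_le_of_ne (Subgroup.map_subtype_le X) ?_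
      intro he
      apply hne
      rw [eq_top_iff]
      intro x _
      have : (x : G) ∈ X.map L.subtype := by rw [he]; exact x.2
      obtain ⟨x', hx', e⟩ := this
      have : x' = x := Subtype.ext e
      rwa [← this]
    have h3 := hmx _ h1 h2
    intro x hx
    rw [Subgroup.mem_subgroupOf]
    exact (h3 ⟨x, hx, rfl⟩).2

theorem frakL_RStar [Finite G] {p : ℕ} [Fact p.Prime] {M L : Subgroup G} (hL : IsInFrakL p M L) :
    RStar p (((largestPReducedOf p M).subgroupOf L).map (QuotientGroup.mk' (pCore p ↥L))) := by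
  have hFL := frakL_FL hL
  obtain ⟨hYL, -, -, -, -, -, hiso⟩ := hL
  set Y := largestPReducedOf p M with hY
  have hel : IsElementaryAbelian p Y := (isPRed_largest p M).elemAb
  set T := (Y.subgroupOf L).map (QuotientGroup.mk' (pCore p ↥L)) with hT
  have hcard : Nat.card T = (Y ⊓ pCoreOf p L).relIndex Y := by
    rw [hT, ← Subgroup.relIndex_ker, QuotientGroup.ker_mk', Subgroup.inf_relIndex_left,
      pCore_eq_subgroupOf, Subgroup.relIndex_subgroupOf hYL]
  have hTp : IsPGroup p T := ((elemAb_isPGroup hel).comap_subtype).map _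
  have hTne : T ≠ ⊥ := by
    intro h
    have h1 : Y.subgroupOf L ≤ pCore p ↥L := by
      have := (Subgroup.map_eq_bot_iff _).1 h
      rwa [QuotientGroup.ker_mk'] at this
    have h2 := hFL.gen _ hFL.nA h1
    apply hFL.ne
    rw [eq_top_iff, ← h2]
    exact hFL.nrm
  have hgen : ∃ g, T ⊔ cj(g, T) = ⊤ := by
    obtain ⟨g, hg⟩ := hFL.exists_not_mem
    refine ⟨QuotientGroup.mk' (pCore p ↥L) g, ?_⟩
    have h1 := congrArg (Subgroup.map (QuotientGroup.mk' (pCore p ↥L))) (hFL.gen_two hg)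
    rw [Subgroup.map_sup, map_cj',
      Subgroup.map_top_of_surjective _ (QuotientGroup.mk'_surjective _)] at h1
    exact h1
  have hpow : ∀ z ∈ T, z ^ p = 1 := by
    rintro _ ⟨y, hy, rfl⟩
    rw [← map_pow]
    have : y ^ p = 1 := by
      apply Subtype.ext
      have := (elemAb_iff.1 hel).2 _ (Subgroup.mem_subgroupOf.1 hy)
      simpa using this
    rw [this, map_one]
  rcases hiso with ⟨F, _, _, hFc, ⟨e⟩⟩ | ⟨hp2, F, _, _, m, hF, hFc, ⟨e⟩⟩ | ⟨hp2, r, hr, hr2, ⟨e⟩⟩
  · obtain ⟨k, hk⟩ := hTp.exists_card_eq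
    have : CharP F p := charP_of_card_pow (n := k) (by rw [hFc, ← hcard, hk])
    apply RStar.of_equiv e
    apply rstar_SL2
    rw [Subgroup.card_map_of_injective e.injective, hcard, hFc]
  · subst hp2
    by_cases hm : m = 0
    · subst hm
      obtain ⟨g, hg⟩ := hgen
      exact rstar_of_card_two T (by rw [hcard, ← hFc, hF]; norm_num) g hg
    · have hm1 : 1 ≤ m := by omega
      have : CharP F 2 := Cfsg.Agent.Lib.Helper8.charP_two_of_card hF
      apply RStar.of_equiv (e.trans (Cfsg.Agent.Lib.Helper8.lieSzEquiv hF hm1).symm)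
      apply rstar_Sz hF hm1
      · rw [Subgroup.card_map_of_injective (MulEquiv.injective _), hcard, ← hFc, hF]
      · rintro _ ⟨z, hz, rfl⟩
        have := hpow z hz
        rw [sq] at this
        rw [← map_mul, this, map_one]
  · subst hp2
    obtain ⟨g, hg⟩ := hgen
    refine rstar_of_card_two T ?_ g hg
    obtain ⟨k, hk⟩ := hTp.exists_card_eq
    have h1 : Nat.card T ∣ 2 * r := by
      have := Subgroup.card_subgroup_dvd_card T
      rwa [Nat.card_congr e.toEquiv, DihedralGroup.nat_card] at this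
    have h2 : k ≠ 0 := by
      rintro rfl
      apply hTne
      rw [pow_zero] at hk
      exact Subgroup.card_eq_one.1 hk
    have h3 : k < 2 := by
      by_contra hcon
      have h4 : 2 ^ 2 ∣ 2 * r := (pow_dvd_pow 2 (by omega : 2 ≤ k)).trans (hk ▸ h1)
      have h5 : 2 ∣ r := by
        obtain ⟨c, hc⟩ := h4
        exact ⟨c, by omega⟩
      exact hr2 ((Nat.prime_dvd_prime_iff_eq Nat.prime_two hr).1 h5).symm
    have : k = 1 := by omega
    rw [hk, this, pow_one]

/-- non-`p`-elements of `L ∈ 𝔏_G(Y_M)` act fixed-point-freely on `O_p(L) / C_{Y_M}(L)` -/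
theorem frakL_fpf [Finite G] {p : ℕ} [Fact p.Prime] {M L : Subgroup G} (hL : IsInFrakL p M L)
    {h : G} (hh : h ∈ L) (hnp : ¬ ∃ k : ℕ, orderOf h = p ^ k) :
    ∀ a ∈ pCoreOf p L,
      h * a * h⁻¹ * a⁻¹ ∈ largestPReducedOf p M ⊓ Subgroup.centralizer ((L : Subgroup G) : Set G) →
      a ∈ largestPReducedOf p M ⊓ Subgroup.centralizer ((L : Subgroup G) : Set G) := by
  have hFL := frakL_FL hL
  have hR := frakL_RStar hL
  have := pCore_normal p ↥L
  have hmain := hFL.main (pCore_isPGroup p ↥L) hR ⟨h, hh⟩ (by rwa [Subgroup.orderOf_mk])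
  have tr : ∀ z : ↥L, z ∈ (largestPReducedOf p M).subgroupOf L ⊓ Subgroup.center ↥L ↔
      (z : G) ∈ largestPReducedOf p M ⊓ Subgroup.centralizer ((L : Subgroup G) : Set G) := by
    intro z
    rw [Subgroup.mem_inf, Subgroup.mem_inf, Subgroup.mem_subgroupOf, Subgroup.mem_center_iff,
      Subgroup.mem_centralizer_iff]
    constructor
    · rintro ⟨h1, h2⟩
      exact ⟨h1, fun g hg => congrArg Subtype.val (h2 ⟨g, hg⟩)⟩
    · rintro ⟨h1, h2⟩
      exact ⟨h1, fun g => Subtype.ext (h2 g g.2)⟩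
  intro a ha hc
  obtain ⟨haL, ha'⟩ := mem_pCoreOf_iff.1 ha
  exact (tr ⟨a, haL⟩).1 (hmain ⟨a, haL⟩ ha' ((tr _).2 hc))

end Cfsg.Agent.Lib.Helper37
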