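import Mathlib

/-!
# Concrete facts on `Z₂ × S₄` (helper37)
-/

set_option autoImplicit false

namespace Cfsg.Agent.Lib.Helper37.Z2S4

open Equiv

/-- the group `Z₂ × S₄`. -/
abbrev X := Multiplicative (ZMod 2) × Perm (Fin 4)

def t0 : X := (Multiplicative.ofAdd 1, 1)
def z0 : X := (1, swap 0 1 * swap 2 3)
def b0 : X := (1, swap 0 1)
def r0 : X := (1, swap 0 2 * swap 2 1 * swap 1 3)
def c0 : X := (1, swap 0 1 * swap 1 2)

/-- conjugacy in `X`, in decidable form. -/
def cj (a x : X) : Prop := ∃ k : X, k * a * k⁻¹ = x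

instance (a x : X) : Decidable (cj a x) := by unfold cj; infer_instance

set_option maxRecDepth 100000 in
theorem center_X : ∀ x : X, (∀ y : X, x * y = y * x) → x = 1 ∨ x = t0 := by decide +kernel

set_option maxRecDepth 100000 in
theorem t0_central : ∀ y : X, t0 * y = y * t0 := by decide +kernel

set_option maxRecDepth 100000 in
theorem invol_X : ∀ x : X, x * x = 1 →
    x = 1 ∨ x = t0 ∨ cj z0 x ∨ cj (t0 * z0) x ∨ cj b0 x ∨ cj (t0 * b0) x := by decide +kernel

theorem t0_sq : t0 * t0 = 1 := by decide +kernel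
theorem z0_sq : z0 * z0 = 1 := by decide +kernel
theorem b0_sq : b0 * b0 = 1 := by decide +kernel
theorem r0_sq : r0 * r0 = z0 := by decide +kernel
theorem b0_r0 : b0 * r0 * b0⁻¹ = r0⁻¹ := by decide +kernel
theorem c0_cube : c0 * c0 * c0 = 1 := by decide +kernel
theorem t0_ne : t0 ≠ 1 := by decide +kernel
theorem z0_ne : z0 ≠ 1 := by decide +kernel
theorem b0_ne_t0 : b0 ≠ t0 := by decide +kernel
theorem c0_ne : c0 ≠ 1 := by decide +kernel
theorem c0_z0_ne : c0 * z0 * c0⁻¹ ≠ z0 := by decide +kernel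
theorem c0_z0_comm : (c0 * z0 * c0⁻¹) * z0 = z0 * (c0 * z0 * c0⁻¹) := by decide +kernel
theorem b0_z0 : b0 * z0 = z0 * b0 := by decide +kernel
theorem r0_z0 : r0 * z0 = z0 * r0 := by decide +kernel
theorem r0_b0 : r0 * b0 * r0⁻¹ = b0 * z0 := by decide +kernel
theorem r0_b0_comm : r0 * b0 * r0⁻¹ * b0⁻¹ = z0 := by decide +kernel
theorem b0_ne : b0 ≠ 1 := by decide +kernel
theorem b0_ne_r0 : b0 ≠ r0 := by decide +kernel
theorem b0_ne_z0 : b0 ≠ z0 := by decide +kernel
theorem b0_ne_r0z0 : b0 ≠ r0 * z0 := by decide +kernel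
theorem t0b0_ne_t0 : t0 * b0 ≠ t0 := by decide +kernel
theorem t0_ne_z0 : t0 ≠ z0 := by decide +kernel

set_option maxRecDepth 100000 in
theorem comm_T0 : ∀ x y : X, x * z0 = z0 * x → y * z0 = z0 * y →
    x * y * x⁻¹ * y⁻¹ = 1 ∨ x * y * x⁻¹ * y⁻¹ = z0 := by decide +kernel

theorem card_X : Nat.card X = 48 := by
  rw [Nat.card_eq_fintype_card]; decide +kernel

set_option maxRecDepth 100000 in
theorem card_T0 : Nat.card (Subgroup.centralizer ({z0} : Set X)) = 16 := by
  have : Nat.card (Subgroup.centralizer ({z0} : Set X)) = Nat.card {x : X // x * z0 = z0 * x} := by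
    apply Nat.card_congr
    exact Equiv.subtypeEquivRight (fun x => by
      rw [Subgroup.mem_centralizer_singleton_iff])
  rw [this, Nat.card_eq_fintype_card]
  decide +kernel

/-- membership predicates of the two maximal subgroups of `C_X(z0)` used for transfer. -/
def PA (x : X) : Prop := x * z0 = z0 * x ∧ x.1 = 1
def PB (x : X) : Prop := x * z0 = z0 * x ∧ (x.1 = 1 ↔ Perm.sign x.2 = 1)

instance : DecidablePred PA := fun x => by unfold PA; infer_instance
instance : DecidablePred PB := fun x => by unfold PB; infer_instance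

set_option maxRecDepth 100000 in
theorem PA_mul : ∀ x y : X, PA x → PA y → PA (x * y) := by decide +kernel
set_option maxRecDepth 100000 in
theorem PA_inv : ∀ x : X, PA x → PA x⁻¹ := by decide +kernel
set_option maxRecDepth 100000 in
theorem PB_mul : ∀ x y : X, PB x → PB y → PB (x * y) := by decide +kernel
set_option maxRecDepth 100000 in
theorem PB_inv : ∀ x : X, PB x → PB x⁻¹ := by decide +kernel

def QA : Subgroup X where
  carrier := {x | PA x}
  mul_mem' := fun {x y} hx hy => PA_mul x y hx hy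
  one_mem' := by show PA 1; decide +kernel
  inv_mem' := fun {x} hx => PA_inv x hx

def QB : Subgroup X where
  carrier := {x | PB x}
  mul_mem' := fun {x y} hx hy => PB_mul x y hx hy
  one_mem' := by show PB 1; decide +kernel
  inv_mem' := fun {x} hx => PB_inv x hx

theorem QA_le : QA ≤ Subgroup.centralizer ({z0} : Set X) := fun x hx =>
  Subgroup.mem_centralizer_singleton_iff.2 (show PA x from hx).1

theorem QB_le : QB ≤ Subgroup.centralizer ({z0} : Set X) := fun x hx =>
  Subgroup.mem_centralizer_singleton_iff.2 (show PB x from hx).1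

set_option maxRecDepth 100000 in
theorem card_QA : Nat.card QA = 8 := by
  have : Nat.card QA = Nat.card {x : X // PA x} := rfl
  rw [this, Nat.card_eq_fintype_card]
  decide +kernel

set_option maxRecDepth 100000 in
theorem card_QB : Nat.card QB = 8 := by
  have : Nat.card QB = Nat.card {x : X // PB x} := rfl
  rw [this, Nat.card_eq_fintype_card]
  decide +kernel

theorem t0_not_mem_QA : t0 ∉ QA := by
  show ¬ PA t0
  decide +kernel

theorem t0_not_mem_QB : t0 ∉ QB := by
  show ¬ PB t0
  decide +kernel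

set_option maxRecDepth 100000 in
theorem invol_PA : ∀ x : X, PA x → x * x = 1 → x = 1 ∨ cj z0 x ∨ cj b0 x := by decide +kernel

set_option maxRecDepth 100000 in
theorem invol_PB : ∀ x : X, PB x → x * x = 1 → x = 1 ∨ cj z0 x ∨ cj (t0 * b0) x := by
  decide +kernel

end Cfsg.Agent.Lib.Helper37.Z2S4
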