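import Mathlib
import Cfsg.Agent.Lib.Helper25.DihGroup
import Cfsg.Agent.Lib.Helper69.AutAlt

/-!
# Two facts on symmetric groups used for `C(t) ≅ Z₂ × S₄` (helper37)
* `S₇` has no subgroup of order 336;
* an automorphism of `A₆` fixing an element of order three is induced by `S₆`.
-/

set_option autoImplicit false

namespace Cfsg.Agent.Lib.Helper37.Z2S4

open Equiv Equiv.Perm

theorem factorization_two_eq {n k : ℕ} (hn : n ≠ 0) (h1 : 2 ^ k ∣ n) (h2 : ¬ 2 ^ (k + 1) ∣ n) :
    n.factorization 2 = k := by
  have a := (Nat.prime_two.pow_dvd_iff_le_factorization hn).1 h1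
  have b : ¬ (k + 1 ≤ n.factorization 2) := fun h =>
    h2 ((Nat.prime_two.pow_dvd_iff_le_factorization hn).2 h)
  omega

theorem no_336 {Ω : Type*} [Fintype Ω] [DecidableEq Ω] (hΩ : Fintype.card Ω = 7)
    (H : Subgroup (Perm Ω)) (hH : Nat.card H = 336) : False := by
  classical
  have : Fact (Nat.Prime 2) := ⟨Nat.prime_two⟩
  have hcardP : Nat.card (Perm Ω) = 5040 := by
    rw [Nat.card_eq_fintype_card, Fintype.card_perm, hΩ]; rfl
  obtain ⟨K, hK⟩ := Sylow.exists_subgroup_card_pow_prime (G := H) 2 (n := 4)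
    (by rw [hH]; norm_num)
  have hK' : Nat.card (K.map H.subtype) = 2 ^ (Nat.card (Perm Ω)).factorization 2 := by
    rw [Subgroup.card_map_of_injective H.subtype_injective, hK, hcardP,
      factorization_two_eq (n := 5040) (k := 4) (by norm_num) (by norm_num) (by norm_num)]
  obtain ⟨a, b, hab⟩ : ∃ a b : Ω, a ≠ b := by
    have : 1 < Fintype.card Ω := by omega
    exact Fintype.exists_pair_of_one_lt_card this
  have hs2 : orderOf (swap a b) = 2 ^ 1 := by
    rw [pow_one]; exact (IsSwap.orderOf ⟨a, b, hab, rfl⟩)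
  obtain ⟨k, hk⟩ := Cfsg.Agent.Lib.Helper25.exists_conj_mem_sylow (Sylow.ofCard _ hK')
    (Cfsg.Agent.Lib.Helper25.isPGroup_zpowers_of_orderOf hs2)
  have h1 := hk (swap a b) (Subgroup.mem_zpowers _)
  rw [Sylow.coe_ofCard] at h1
  have h2 : k * swap a b * k⁻¹ ∈ H := by
    obtain ⟨y, -, hy⟩ := h1
    rw [← hy]; exact y.2
  have h3 : (k * swap a b * k⁻¹).IsSwap := by
    rw [isSwap_iff_cycleType, cycleType_conj, ← isSwap_iff_cycleType]
    exact ⟨a, b, hab, rfl⟩
  have h4 : H = ⊤ := by
    apply subgroup_eq_top_of_swap_mem (by rw [hΩ]; norm_num) _ h2 h3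
    rw [hΩ, ← Nat.card_eq_fintype_card, hH]
    norm_num
  rw [h4, Subgroup.card_top, hcardP] at hH
  omega

open Cfsg.Agent.Lib.Helper69.AutAlt in
theorem aut_of_fix (f : MulAut (alternatingGroup (Fin 6))) (c : alternatingGroup (Fin 6))
    (hc : orderOf c = 3) (hfc : f c = c) : ∃ s : Perm (Fin 6), MulAut.conjNormal s = f := by
  classical
  by_cases hall : ∀ x : alternatingGroup (Fin 6), (x : Perm (Fin 6)).IsThreeCycle →
      ((f x : alternatingGroup (Fin 6)) : Perm (Fin 6)).IsThreeCycle
  · exact conj_of_three (by norm_num) f hall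
  exfalso
  push Not at hall
  obtain ⟨x0, hx0, hfx0⟩ := hall
  have h33 : ∀ x : alternatingGroup (Fin 6), (x : Perm (Fin 6)).IsThreeCycle →
      ((f x : alternatingGroup (Fin 6)) : Perm (Fin 6)).cycleType = {3, 3} := by
    have h0 : ((f x0 : alternatingGroup (Fin 6)) : Perm (Fin 6)).cycleType = {3, 3} := by
      rcases type_of_order_three _ (by rw [orderOf_aut_coe f x0, hx0.orderOf]) with h | h
      · exact absurd h hfx0
      · exact h
    intro x hx
    have hc := alternatingGroup.isThreeCycle_isConj (by simp) hx0 hx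
    obtain ⟨a, ha⟩ := isConj_iff.1 hc
    rw [← ha, map_mul, map_mul, map_inv]
    simp only [Subgroup.coe_mul, Subgroup.coe_inv]
    rw [cycleType_conj, h0]
  have hback : ∀ y : alternatingGroup (Fin 6), (y : Perm (Fin 6)).cycleType = {3, 3} →
      ((f y : alternatingGroup (Fin 6)) : Perm (Fin 6)).IsThreeCycle := by
    intro y hy
    rcases type_of_order_three _ (by rw [orderOf_aut_coe f y, orderOf_of_type33 _ hy]) with h | h
    · exact h
    exfalso
    obtain ⟨F, hF⟩ : ∃ F : Perm (Fin 6) → Perm (Fin 6),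
        ∀ (g : Perm (Fin 6)) (h : g ∈ alternatingGroup (Fin 6)), F g = (f ⟨g, h⟩ : Perm (Fin 6)) :=
      ⟨fun g => if h : g ∈ alternatingGroup (Fin 6) then (f ⟨g, h⟩ : Perm (Fin 6)) else 1,
        fun g h => by simp [h]⟩
    have himg : (Finset.univ.filter (fun g : Perm (Fin 6) => g.cycleType = {3})).image F =
        Finset.univ.filter (fun g : Perm (Fin 6) => g.cycleType = {3, 3}) := by
      apply Finset.eq_of_subset_of_card_le
      · intro z hz
        simp only [Finset.mem_image, Finset.mem_filter, Finset.mem_univ, true_and] at hz ⊢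
        obtain ⟨g, hg, rfl⟩ := hz
        have hg3 : g.IsThreeCycle := hg
        rw [hF g hg3.mem_alternatingGroup]
        exact h33 ⟨g, hg3.mem_alternatingGroup⟩ hg3
      · rw [Finset.card_image_of_injOn, card_T3, card_T33]
        intro g hg g' hg' he
        simp only [Finset.coe_filter, Finset.mem_univ, true_and, Set.mem_ofPred_eq] at hg hg'
        have hg3 : g.IsThreeCycle := hg
        have hg3' : g'.IsThreeCycle := hg'
        rw [hF g hg3.mem_alternatingGroup, hF g' hg3'.mem_alternatingGroup] at he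
        have := f.injective (Subtype.ext he)
        exact congrArg Subtype.val this
    have hmem : ((f y : alternatingGroup (Fin 6)) : Perm (Fin 6)) ∈
        (Finset.univ.filter (fun g : Perm (Fin 6) => g.cycleType = {3})).image F := by
      rw [himg]; simpa using h
    simp only [Finset.mem_image, Finset.mem_filter, Finset.mem_univ, true_and] at hmem
    obtain ⟨g, hg, he⟩ := hmem
    have hg3 : g.IsThreeCycle := hg
    rw [hF g hg3.mem_alternatingGroup] at he
    have h1 := f.injective (Subtype.ext he)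
    have h2 : g = (y : Perm (Fin 6)) := congrArg Subtype.val h1
    rw [h2, hy] at hg
    revert hg
    decide
  have hne : ({3} : Multiset ℕ) ≠ {3, 3} := by decide
  rcases type_of_order_three (c : Perm (Fin 6)) (by rw [Subgroup.orderOf_coe, hc]) with h | h
  · have := h33 c h
    rw [hfc, h] at this
    exact hne this
  · have : ((f c : alternatingGroup (Fin 6)) : Perm (Fin 6)).cycleType = {3} := hback c h
    rw [hfc, h] at this
    exact hne this.symm

end Cfsg.Agent.Lib.Helper37.Z2S4
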