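import Mathlib
import Cfsg.Agent.Lib.Helper37.Z2S4
import Cfsg.Agent.S0111

/-!
# Groups with a 2-central involution `t`, `C(t) ≅ Z₂ × S₄`, `C(S') = S` (helper37)

Setup and Thompson transfer: there is a normal subgroup of index two avoiding `t`.
-/

set_option autoImplicit false

namespace Cfsg.Agent.Lib.Helper37.Z2S4

open scoped commutatorElement

variable {G : Type*} [Group G]

/-- an identification of `C_G(t)` with `Z₂ × S₄` such that `C_G(z) ≤ C_G(t)` is a Sylow
2-subgroup. -/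
structure Emb (t : G) where
  ι : X →* G
  inj : Function.Injective ι
  range : ι.range = Subgroup.centralizer ({t} : Set G)
  ιt : ι t0 = t
  cz : ∀ g : G, g * ι z0 = ι z0 * g → ∃ x : X, x * z0 = z0 * x ∧ ι x = g
  syl : ∃ P : Sylow 2 G, (P : Subgroup G) = (Subgroup.centralizer ({z0} : Set X)).map ι

theorem exists_emb [Finite G] (t : G) (ht : orderOf t = 2) (T : Sylow 2 G)
    (htc : ∀ s ∈ (T : Subgroup G), s * t = t * s)
    (e : ↥(Subgroup.centralizer ({t} : Set G)) ≃* (Multiplicative (ZMod 2) × Equiv.Perm (Fin 4)))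
    (h2 : ∀ S : Sylow 2 G, Subgroup.centralizer
      ((⁅(S : Subgroup G), (S : Subgroup G)⁆ : Subgroup G) : Set G) = (S : Subgroup G)) :
    Nonempty (Emb t) := by
  set C := Subgroup.centralizer ({t} : Set G) with hC
  let ι : X →* G := C.subtype.comp e.symm.toMonoidHom
  have hinj : Function.Injective ι := Subtype.val_injective.comp e.symm.injective
  have hrange : ι.range = C := by
    ext g
    constructor
    · rintro ⟨x, rfl⟩
      exact (e.symm x).2
    · intro hg
      exact ⟨e ⟨g, hg⟩, by simp [ι]⟩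
  have htC : t ∈ C := Subgroup.mem_centralizer_singleton_iff.2 rfl
  have ht0 : ι t0 = t := by
    have h1 : ∀ y : X, e ⟨t, htC⟩ * y = y * e ⟨t, htC⟩ := by
      intro y
      obtain ⟨c, rfl⟩ := e.surjective y
      rw [← map_mul, ← map_mul]
      congr 1
      apply Subtype.ext
      exact (Subgroup.mem_centralizer_singleton_iff.1 c.2).symm
    rcases center_X _ h1 with h | h
    · exfalso
      have : (⟨t, htC⟩ : C) = 1 := by
        apply e.injective; rw [h, map_one]
      have h3 : t = 1 := congrArg Subtype.val this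
      rw [h3, orderOf_one] at ht
      omega
    · show ((e.symm t0 : C) : G) = t
      rw [← h]; simp
  have hcardC : Nat.card C = 48 := by
    rw [Nat.card_congr e.toEquiv]; exact card_X
  set S0 : Subgroup G := (Subgroup.centralizer ({z0} : Set X)).map ι with hS0
  have hcardS0 : Nat.card S0 = 16 := by
    rw [hS0, Subgroup.card_map_of_injective hinj, card_T0]
  have hfac : (Nat.card G).factorization 2 = 4 := by
    have hT := T.card_eq_multiplicity
    have hTC : (T : Subgroup G) ≤ C := fun s hs =>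
      Subgroup.mem_centralizer_singleton_iff.2 (htc s hs)
    have h1 : Nat.card (T : Subgroup G) ∣ 48 := hcardC ▸ Subgroup.card_dvd_of_le hTC
    rw [hT] at h1
    have h3 : 48 ∣ Nat.card G := hcardC ▸ Subgroup.card_subgroup_dvd_card C
    have h4 : 2 ^ 4 ∣ Nat.card G := Dvd.dvd.trans (by norm_num) h3
    have h5 : 4 ≤ (Nat.card G).factorization 2 :=
      (Nat.prime_two.pow_dvd_iff_le_factorization Nat.card_pos.ne').1 h4
    by_contra hne
    have h6 : 5 ≤ (Nat.card G).factorization 2 := by omega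
    have h7 : 2 ^ 5 ∣ 48 := (pow_dvd_pow 2 h6).trans h1
    omega
  have hsyl : Nat.card S0 = 2 ^ (Nat.card G).factorization 2 := by rw [hcardS0, hfac]; norm_num
  have hP := h2 (Sylow.ofCard S0 hsyl)
  rw [Sylow.coe_ofCard] at hP
  have hcomm : ⁅S0, S0⁆ ≤ Subgroup.zpowers (ι z0) := by
    rw [Subgroup.commutator_le]
    rintro _ ⟨x, hx, rfl⟩ _ ⟨y, hy, rfl⟩
    have hx' := Subgroup.mem_centralizer_singleton_iff.1 hx
    have hy' := Subgroup.mem_centralizer_singleton_iff.1 hy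
    have : ⁅ι x, ι y⁆ = ι (x * y * x⁻¹ * y⁻¹) := by
      rw [commutatorElement_def]; simp
    rw [this]
    rcases comm_T0 x y hx' hy' with h | h
    · rw [h, map_one]; exact one_mem _
    · rw [h]; exact Subgroup.mem_zpowers _
  refine ⟨⟨ι, hinj, hrange, ht0, ?_, ⟨Sylow.ofCard S0 hsyl, Sylow.coe_ofCard _ _⟩⟩⟩
  intro g hg
  have hgc : g ∈ Subgroup.centralizer ((⁅S0, S0⁆ : Subgroup G) : Set G) := by
    rw [Subgroup.mem_centralizer_iff]
    intro y hy
    obtain ⟨k, rfl⟩ := Subgroup.mem_zpowers_iff.1 (hcomm hy)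
    have : Commute g (ι z0) := hg
    exact ((this.zpow_right k).eq).symm
  rw [hP] at hgc
  obtain ⟨x, hx, rfl⟩ := hgc
  exact ⟨x, Subgroup.mem_centralizer_singleton_iff.1 hx, rfl⟩

/-- order of the centralizer. -/
noncomputable def kap (g : G) : ℕ := Nat.card (Subgroup.centralizer ({g} : Set G))

theorem kap_conj (k g : G) : kap (k * g * k⁻¹) = kap g := by
  unfold kap
  have : Subgroup.centralizer ({k * g * k⁻¹} : Set G) =
      (Subgroup.centralizer ({g} : Set G)).map (MulAut.conj k).toMonoidHom := by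
    ext x
    simp only [Subgroup.mem_centralizer_singleton_iff, Subgroup.mem_map, MulEquiv.coe_toMonoidHom,
      MulAut.conj_apply]
    constructor
    · intro h
      refine ⟨k⁻¹ * x * k, ?_, by group⟩
      calc k⁻¹ * x * k * g = k⁻¹ * (x * (k * g * k⁻¹)) * k := by group
        _ = k⁻¹ * ((k * g * k⁻¹) * x) * k := by rw [h]
        _ = g * (k⁻¹ * x * k) := by group
    · rintro ⟨y, hy, rfl⟩
      calc k * y * k⁻¹ * (k * g * k⁻¹) = k * (y * g) * k⁻¹ := by group
        _ = k * (g * y) * k⁻¹ := by rw [hy]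
        _ = k * g * k⁻¹ * (k * y * k⁻¹) := by group
  rw [this, Subgroup.card_map_of_injective (MulAut.conj k).injective]

namespace Emb

variable {t : G} (E : Emb t)

theorem mem_range {g : G} (h : g * t = t * g) : ∃ x : X, E.ι x = g := by
  have : g ∈ E.ι.range := by
    rw [E.range]; exact Subgroup.mem_centralizer_singleton_iff.2 h
  exact this

theorem comm_t (x : X) : E.ι x * t = t * E.ι x := by
  have : E.ι x ∈ E.ι.range := ⟨x, rfl⟩
  rw [E.range] at this
  exact Subgroup.mem_centralizer_singleton_iff.1 this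

include E in
theorem kap_t : kap t = 48 := by
  unfold kap
  rw [← E.range, ← card_X]
  exact (Nat.card_congr (MonoidHom.ofInjective E.inj).toEquiv).symm

theorem centralizer_z :
    Subgroup.centralizer ({E.ι z0} : Set G) = (Subgroup.centralizer ({z0} : Set X)).map E.ι := by
  ext g
  constructor
  · intro hg
    obtain ⟨x, hx, rfl⟩ := E.cz g (Subgroup.mem_centralizer_singleton_iff.1 hg)
    exact ⟨x, Subgroup.mem_centralizer_singleton_iff.2 hx, rfl⟩
  · rintro ⟨x, hx, rfl⟩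
    rw [Subgroup.mem_centralizer_singleton_iff, ← map_mul, ← map_mul,
      Subgroup.mem_centralizer_singleton_iff.1 hx]

theorem kap_z : kap (E.ι z0) = 16 := by
  unfold kap
  rw [E.centralizer_z, Subgroup.card_map_of_injective E.inj, card_T0]

theorem kap_cj {a x : X} (h : cj a x) : kap (E.ι x) = kap (E.ι a) := by
  obtain ⟨k, rfl⟩ := h
  rw [map_mul, map_mul, map_inv, kap_conj]

theorem not_both (hb : ∃ g, g * E.ι b0 * g⁻¹ = t) (htb : ∃ g, g * E.ι (t0 * b0) * g⁻¹ = t) :
    False := by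
  obtain ⟨g, hg⟩ := hb
  obtain ⟨g', hg'⟩ := htb
  have kb : kap (E.ι b0) = 48 := by rw [← kap_conj g, hg, E.kap_t]
  have ktb : kap (E.ι (t0 * b0)) = 48 := by rw [← kap_conj g', hg', E.kap_t]
  have hwt : (g * E.ι z0 * g⁻¹) * t = t * (g * E.ι z0 * g⁻¹) := by
    have : E.ι b0 * E.ι z0 = E.ι z0 * E.ι b0 := by rw [← map_mul, ← map_mul, b0_z0]
    calc g * E.ι z0 * g⁻¹ * t = g * E.ι z0 * g⁻¹ * (g * E.ι b0 * g⁻¹) := by rw [hg]
      _ = g * (E.ι z0 * E.ι b0) * g⁻¹ := by group
      _ = g * (E.ι b0 * E.ι z0) * g⁻¹ := by rw [this]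
      _ = (g * E.ι b0 * g⁻¹) * (g * E.ι z0 * g⁻¹) := by group
      _ = _ := by rw [hg]
  obtain ⟨w0, hw0⟩ := E.mem_range hwt
  have kw : kap (E.ι w0) = 16 := by rw [hw0, kap_conj, E.kap_z]
  have hw2 : w0 * w0 = 1 := by
    apply E.inj
    rw [map_mul, hw0, map_one]
    have : E.ι z0 * E.ι z0 = 1 := by rw [← map_mul, z0_sq, map_one]
    calc g * E.ι z0 * g⁻¹ * (g * E.ι z0 * g⁻¹) = g * (E.ι z0 * E.ι z0) * g⁻¹ := by group
      _ = 1 := by rw [this]; group
  rcases invol_X w0 hw2 with h | h | h | h | h | h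
  · rw [h, map_one] at hw0
    have : E.ι z0 = 1 := by
      calc E.ι z0 = g⁻¹ * (g * E.ι z0 * g⁻¹) * g := by group
        _ = 1 := by rw [← hw0]; group
    exact z0_ne (E.inj (by rw [this, map_one]))
  · have hw0 : g * E.ι b0 * g⁻¹ = g * E.ι z0 * g⁻¹ := by rw [hg, ← hw0, h, E.ιt]
    have : E.ι b0 = E.ι z0 := by
      calc E.ι b0 = g⁻¹ * (g * E.ι b0 * g⁻¹) * g := by group
        _ = g⁻¹ * (g * E.ι z0 * g⁻¹) * g := by rw [hw0]
        _ = _ := by group
    exact b0_ne_z0 (E.inj this)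
  · obtain ⟨k, hk⟩ := h
    have hn : ((E.ι k)⁻¹ * g) * E.ι z0 = E.ι z0 * ((E.ι k)⁻¹ * g) := by
      have h1 : g * E.ι z0 * g⁻¹ = E.ι k * E.ι z0 * (E.ι k)⁻¹ := by
        rw [← hw0, ← hk]; simp
      calc (E.ι k)⁻¹ * g * E.ι z0 = (E.ι k)⁻¹ * (g * E.ι z0 * g⁻¹) * g := by group
        _ = (E.ι k)⁻¹ * (E.ι k * E.ι z0 * (E.ι k)⁻¹) * g := by rw [h1]
        _ = _ := by group
    obtain ⟨x, -, hx⟩ := E.cz _ hn
    have h1 := E.comm_t x
    have h2 := E.comm_t k
    rw [hx] at h1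
    have h3 : g * t = t * g := by
      calc g * t = E.ι k * ((E.ι k)⁻¹ * g * t) := by group
        _ = E.ι k * (t * ((E.ι k)⁻¹ * g)) := by rw [h1]
        _ = (E.ι k * t) * (E.ι k)⁻¹ * g := by group
        _ = (t * E.ι k) * (E.ι k)⁻¹ * g := by rw [h2]
        _ = t * g := by group
    have h4 : E.ι b0 = t := by
      calc E.ι b0 = g⁻¹ * (g * E.ι b0 * g⁻¹) * g := by group
        _ = g⁻¹ * (t * g) := by rw [hg]; group
        _ = g⁻¹ * (g * t) := by rw [h3]
        _ = t := by group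
    exact b0_ne_t0 (E.inj (h4.trans E.ιt.symm))
  · obtain ⟨k, hk⟩ := h
    have h1 : cj z0 (t0 * w0) := by
      refine ⟨k, ?_⟩
      rw [← hk]
      calc k * z0 * k⁻¹ = (t0 * t0) * (k * z0 * k⁻¹) := by rw [t0_sq, one_mul]
        _ = t0 * ((t0 * k) * z0 * k⁻¹) := by group
        _ = t0 * ((k * t0) * z0 * k⁻¹) := by rw [t0_central k]
        _ = _ := by group
    have h2 : kap (E.ι (t0 * w0)) = 16 := by rw [E.kap_cj h1, E.kap_z]
    have h3 : E.ι (t0 * w0) = (g * E.ι r0) * E.ι b0 * (g * E.ι r0)⁻¹ := by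
      rw [map_mul, E.ιt, hw0]
      have : E.ι r0 * E.ι b0 * (E.ι r0)⁻¹ = E.ι b0 * E.ι z0 := by
        rw [← map_inv, ← map_mul, ← map_mul, r0_b0, map_mul]
      calc t * (g * E.ι z0 * g⁻¹) = (g * E.ι b0 * g⁻¹) * (g * E.ι z0 * g⁻¹) := by rw [hg]
        _ = g * (E.ι b0 * E.ι z0) * g⁻¹ := by group
        _ = g * (E.ι r0 * E.ι b0 * (E.ι r0)⁻¹) * g⁻¹ := by rw [this]
        _ = _ := by group
    rw [h3, kap_conj, kb] at h2
    omega
  · rw [E.kap_cj h, kb] at kw
    omega
  · rw [E.kap_cj h, ktb] at kw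
    omega

include E in
theorem t_sq : t * t = 1 := by rw [← E.ιt, ← map_mul, t0_sq, map_one]

include E in
theorem t_ne : t ≠ 1 := by
  intro h
  exact t0_ne (E.inj (by rw [E.ιt, map_one]; exact h))

include E in
theorem orderOf_t : orderOf t = 2 :=
  orderOf_eq_prime (by rw [sq]; exact E.t_sq) E.t_ne

theorem transfer_aux [Finite G] (Q0 : Subgroup X) (hle : Q0 ≤ Subgroup.centralizer ({z0} : Set X))
    (hcard : Nat.card Q0 = 8) (htQ : t0 ∉ Q0) (β : X)
    (hinv : ∀ x ∈ Q0, x * x = 1 → x = 1 ∨ cj z0 x ∨ cj β x)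
    (hβ : ¬ ∃ g, g * E.ι β * g⁻¹ = t) :
    ∃ M : Subgroup G, M.Normal ∧ M.index = 2 ∧ t ∉ M := by
  obtain ⟨P, hP⟩ := E.syl
  have hQP : Q0.map E.ι ≤ (P : Subgroup G) := by
    rw [hP]; exact Subgroup.map_mono hle
  have hrel : (Q0.map E.ι).relIndex (P : Subgroup G) = 2 := by
    have h1 := Subgroup.relIndex_mul_relIndex ⊥ (Q0.map E.ι) (P : Subgroup G) bot_le hQP
    have hcP : Nat.card (P : Subgroup G) = 16 := by
      rw [hP, Subgroup.card_map_of_injective E.inj, card_T0]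
    rw [Subgroup.relIndex_bot_left, Subgroup.relIndex_bot_left,
      Subgroup.card_map_of_injective E.inj, hcard, hcP] at h1
    omega
  have htP : t ∈ (P : Subgroup G) := by
    rw [hP]
    exact ⟨t0, Subgroup.mem_centralizer_singleton_iff.2 (t0_central z0), E.ιt⟩
  have htQ' : t ∉ Q0.map E.ι := by
    rintro ⟨x, hx, hxt⟩
    have : x = t0 := E.inj (hxt.trans E.ιt.symm)
    exact htQ (this ▸ hx)
  rcases Cfsg.Agent.S0111.result P (Q0.map E.ι) hQP hrel t E.orderOf_t htP htQ' with h | ⟨g, hg⟩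
  · exact h
  · exfalso
    obtain ⟨x, hx, hxg⟩ := hg
    have hxx : x * x = 1 := by
      apply E.inj
      rw [map_mul, hxg, map_one]
      calc g * t * g⁻¹ * (g * t * g⁻¹) = g * (t * t) * g⁻¹ := by group
        _ = 1 := by rw [E.t_sq]; group
    have hk : kap (E.ι x) = 48 := by rw [hxg, kap_conj, E.kap_t]
    rcases hinv x hx hxx with h | h | h
    · rw [h, map_one] at hxg
      apply E.t_ne
      calc t = g⁻¹ * (g * t * g⁻¹) * g := by group
        _ = 1 := by rw [← hxg]; group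
    · rw [E.kap_cj h, E.kap_z] at hk
      omega
    · obtain ⟨k, hk'⟩ := h
      apply hβ
      refine ⟨g⁻¹ * E.ι k, ?_⟩
      have : E.ι k * E.ι β * (E.ι k)⁻¹ = g * t * g⁻¹ := by
        rw [← hxg, ← hk']; simp
      calc g⁻¹ * E.ι k * E.ι β * (g⁻¹ * E.ι k)⁻¹ = g⁻¹ * (E.ι k * E.ι β * (E.ι k)⁻¹) * g := by group
        _ = g⁻¹ * (g * t * g⁻¹) * g := by rw [this]
        _ = t := by group

include E in
theorem exists_index_two [Finite G] : ∃ M : Subgroup G, M.Normal ∧ M.index = 2 ∧ t ∉ M := by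
  by_cases hb : ∃ g, g * E.ι b0 * g⁻¹ = t
  · exact E.transfer_aux QB QB_le card_QB t0_not_mem_QB (t0 * b0) (fun x hx => invol_PB x hx)
      (fun h => E.not_both hb h)
  · exact E.transfer_aux QA QA_le card_QA t0_not_mem_QA b0 (fun x hx => invol_PA x hx) hb

end Emb

end Cfsg.Agent.Lib.Helper37.Z2S4
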