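import Mathlib
import Cfsg.Agent.Lib.Helper37.Z2S4Setup
import Cfsg.Agent.Lib.Helper37.D8Main
import Cfsg.Agent.Lib.Helper59.TwoGroupRecog
import Cfsg.Agent.Lib.Helper29.Cores
import Cfsg.Agent.Lib.Helper40.Cores

/-!
# `C(t) ≅ Z₂ × S₄`: the subgroup of index two (helper37)
-/

set_option autoImplicit false

namespace Cfsg.Agent.Lib.Helper37.Z2S4

variable {G : Type*} [Group G]

theorem card_inf_of_index_two (M L : Subgroup G) (hMi : M.index = 2) {t : G} (htL : t ∈ L)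
    (htM : t ∉ M) : Nat.card (M ⊓ L : Subgroup G) * 2 = Nat.card L := by
  have h1 : M.relIndex L = 2 := by
    rw [Subgroup.relIndex_eq_two_iff_exists_notMem_and]
    refine ⟨t, htL, htM, fun b _ => ?_⟩
    by_cases hb : b ∈ M
    · exact Or.inr hb
    · left
      rw [Subgroup.mul_mem_iff_of_index_two hMi]
      exact ⟨fun h => absurd h hb, fun h => absurd h htM⟩
  have h2 := Subgroup.relIndex_mul_relIndex ⊥ (M ⊓ L) L bot_le inf_le_right
  rw [Subgroup.relIndex_bot_left, Subgroup.relIndex_bot_left, Subgroup.inf_relIndex_right, h1] at h2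
  exact h2

theorem rel_eps : ∀ e1 e2 : X, (e1 = 1 ∨ e1 = t0) → (e2 = 1 ∨ e2 = t0) →
    (e1 * r0) * (e1 * r0) = z0 ∧ (e2 * b0) * (e2 * b0) = 1 ∧
    (e2 * b0) * (e1 * r0) * (e2 * b0)⁻¹ = (e1 * r0)⁻¹ ∧
    (e1 * r0) * z0 = z0 * (e1 * r0) ∧ (e2 * b0) * z0 = z0 * (e2 * b0) ∧
    e2 * b0 ≠ 1 ∧ e2 * b0 ≠ e1 * r0 ∧ e2 * b0 ≠ z0 ∧ e2 * b0 ≠ (e1 * r0) * z0 := by
  rintro e1 e2 (rfl | rfl) (rfl | rfl) <;>
  refine ⟨?_, ?_, ?_, ?_, ?_, ?_, ?_, ?_, ?_⟩ <;> decide +kernel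

namespace Emb

variable {t : G} (E : Emb t) {M : Subgroup G}

omit E in
theorem mem_or (hMi : M.index = 2) (htM : t ∉ M) (g : G) : g ∈ M ∨ t * g ∈ M := by
  by_cases hg : g ∈ M
  · exact Or.inl hg
  · right
    rw [Subgroup.mul_mem_iff_of_index_two hMi]
    exact ⟨fun h => absurd h htM, fun h => absurd h hg⟩

theorem z_mem (hMi : M.index = 2) : E.ι z0 ∈ M := by
  rw [← r0_sq, map_mul, ← sq]
  exact Subgroup.sq_mem_of_index_two hMi _

theorem c_mem (hMi : M.index = 2) : E.ι c0 ∈ M := by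
  have : c0 = (c0 * c0) ^ 2 := by
    rw [sq]
    calc c0 = c0 * (c0 * c0 * c0) := by rw [c0_cube, mul_one]
      _ = _ := by group
  rw [this, map_pow]
  exact Subgroup.sq_mem_of_index_two hMi _

theorem exists_eps (hMi : M.index = 2) (htM : t ∉ M) (x : X) :
    ∃ e : X, (e = 1 ∨ e = t0) ∧ E.ι (e * x) ∈ M := by
  rcases mem_or hMi htM (E.ι x) with h | h
  · exact ⟨1, Or.inl rfl, by rwa [one_mul]⟩
  · exact ⟨t0, Or.inr rfl, by rwa [map_mul, E.ιt]⟩

theorem orderOf_z : orderOf (E.ι z0) = 2 :=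
  orderOf_eq_prime (by rw [sq, ← map_mul, z0_sq, map_one])
    (fun h => z0_ne (E.inj (by rw [h, map_one])))

/-- the centralizer of `z` in `M` is dihedral of order 8. -/
theorem nonempty_dihedral [Finite G] (hMi : M.index = 2) (htM : t ∉ M) :
    Nonempty (Subgroup.centralizer ({(⟨E.ι z0, E.z_mem hMi⟩ : M)} : Set M) ≃* DihedralGroup 4) := by
  obtain ⟨e1, he1, hσM⟩ := E.exists_eps hMi htM r0
  obtain ⟨e2, he2, hτM⟩ := E.exists_eps hMi htM b0
  obtain ⟨h1, h2, h3, h4, h5, h6, h7, h8, h9⟩ := rel_eps e1 e2 he1 he2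
  set K := Subgroup.centralizer ({(⟨E.ι z0, E.z_mem hMi⟩ : M)} : Set M) with hK
  have hσK : (⟨E.ι (e1 * r0), hσM⟩ : M) ∈ K := by
    rw [hK, Subgroup.mem_centralizer_singleton_iff]
    apply Subtype.ext
    show E.ι (e1 * r0) * E.ι z0 = E.ι z0 * E.ι (e1 * r0)
    rw [← map_mul, ← map_mul, h4]
  have hτK : (⟨E.ι (e2 * b0), hτM⟩ : M) ∈ K := by
    rw [hK, Subgroup.mem_centralizer_singleton_iff]
    apply Subtype.ext
    show E.ι (e2 * b0) * E.ι z0 = E.ι z0 * E.ι (e2 * b0)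
    rw [← map_mul, ← map_mul, h5]
  have hcard : Nat.card K = 8 := by
    have e1 : K.map M.subtype = M ⊓ Subgroup.centralizer ({E.ι z0} : Set G) := by
      ext g
      simp only [Subgroup.mem_map, Subgroup.mem_inf, Subgroup.mem_centralizer_singleton_iff, hK,
        Subgroup.coe_subtype]
      constructor
      · rintro ⟨y, hy, rfl⟩
        exact ⟨y.2, congrArg Subtype.val hy⟩
      · rintro ⟨hg, hgz⟩
        exact ⟨⟨g, hg⟩, Subtype.ext hgz, rfl⟩
    have e2 := card_inf_of_index_two M (Subgroup.centralizer ({E.ι z0} : Set G)) hMi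
      (t := t) (Subgroup.mem_centralizer_singleton_iff.2 (E.comm_t z0).symm) htM
    have e3 : Nat.card (Subgroup.centralizer ({E.ι z0} : Set G)) = 16 := E.kap_z
    rw [← e1, Subgroup.card_map_of_injective M.subtype_injective, e3] at e2
    omega
  have hord0 : orderOf (e1 * r0) = 4 := by
    have : orderOf (e1 * r0) = 2 ^ (1 + 1) := by
      apply orderOf_eq_prime_pow
      · rw [pow_one, sq, h1]; exact z0_ne
      · show (e1 * r0) ^ 4 = 1
        calc (e1 * r0) ^ 4 = ((e1 * r0) * (e1 * r0)) * ((e1 * r0) * (e1 * r0)) := by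
              simp only [pow_succ, pow_zero, one_mul, mul_assoc]
          _ = 1 := by rw [h1, z0_sq]
    rw [this]; norm_num
  have hord : orderOf (⟨⟨E.ι (e1 * r0), hσM⟩, hσK⟩ : K) = 4 := by
    rw [← Subgroup.orderOf_coe, ← Subgroup.orderOf_coe]
    show orderOf (E.ι (e1 * r0)) = 4
    rw [orderOf_injective E.ι E.inj, hord0]
  apply Cfsg.Agent.Lib.Helper59.dihedral_recog 4 (by norm_num) ⟨⟨E.ι (e1 * r0), hσM⟩, hσK⟩
    ⟨⟨E.ι (e2 * b0), hτM⟩, hτK⟩ hord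
  · apply Subtype.ext; apply Subtype.ext
    show E.ι (e2 * b0) * E.ι (e2 * b0) = 1
    rw [← map_mul, h2, map_one]
  · apply Subtype.ext; apply Subtype.ext
    show E.ι (e2 * b0) * E.ι (e1 * r0) * (E.ι (e2 * b0))⁻¹ = (E.ι (e1 * r0))⁻¹
    rw [← map_inv, ← map_inv, ← map_mul, ← map_mul, h3]
  · intro hmem
    classical
    rw [mem_zpowers_iff_mem_range_orderOf, hord] at hmem
    simp only [Finset.mem_image, Finset.mem_range] at hmem
    obtain ⟨k, hk, hk'⟩ := hmem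
    have hk'' : (e1 * r0) ^ k = e2 * b0 := by
      apply E.inj
      rw [map_pow]
      exact congrArg (fun x : K => ((x : M) : G)) hk'
    interval_cases k
    · exact h6 (by rw [← hk'', pow_zero])
    · exact h7 (by rw [← hk'', pow_one])
    · exact h8 (by rw [← hk'', sq, h1])
    · apply h9
      rw [← hk'', ← h1]; simp only [pow_succ, pow_zero, one_mul, mul_assoc]
  · rw [hcard]

/-- the `Z*`-case is impossible for `M`. -/
theorem not_zstar [Finite G] (hMi : M.index = 2) (htM : t ∉ M)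
    (hZ : Subgroup.centralizer ({(⟨E.ι z0, E.z_mem hMi⟩ : M)} : Set M) ⊔ Cfsg.oddCore M = ⊤) :
    False := by
  obtain ⟨e'⟩ := E.nonempty_dihedral hMi htM
  set z' : M := ⟨E.ι z0, E.z_mem hMi⟩ with hz'
  set c' : M := ⟨E.ι c0, E.c_mem hMi⟩ with hc'
  have hOn : (Cfsg.oddCore M).Normal := (Cfsg.Agent.Lib.Helper40.pPrimeCore_mem 2 M).1
  have hOodd : Odd (Nat.card (Cfsg.oddCore M)) := Cfsg.Agent.Lib.Helper29.odd_card_oddCore
  have hcard : Nat.card (Subgroup.centralizer ({z'} : Set M)) = 8 := by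
    rw [Nat.card_congr e'.toEquiv, DihedralGroup.nat_card]
  have hc3 : c' ^ 3 = 1 := by
    apply Subtype.ext
    show (E.ι c0) ^ 3 = 1
    rw [← map_pow]
    have : c0 ^ 3 = 1 := by
      rw [← c0_cube]; simp only [pow_succ, pow_zero, one_mul]
    rw [this, map_one]
  have hcO : c' ∈ Cfsg.oddCore M := by
    have hmem : c' ∈ Subgroup.centralizer ({z'} : Set M) ⊔ Cfsg.oddCore M := by
      rw [hZ]; exact Subgroup.mem_top _
    obtain ⟨s, hs, o, ho, hso⟩ := Subgroup.mem_sup_of_normal_right.1 hmem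
    have hs8 : s ^ 8 = 1 := by
      have := pow_card_eq_one' (G := Subgroup.centralizer ({z'} : Set M)) (x := ⟨s, hs⟩)
      rw [hcard] at this
      exact congrArg Subtype.val this
    rw [← QuotientGroup.eq_one_iff]
    have h1 : (QuotientGroup.mk c' : M ⧸ Cfsg.oddCore M) = QuotientGroup.mk s := by
      rw [← hso, QuotientGroup.mk_mul, (QuotientGroup.eq_one_iff o).2 ho, mul_one]
    have h8 : (QuotientGroup.mk c' : M ⧸ Cfsg.oddCore M) ^ 8 = 1 := by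
      rw [h1, ← QuotientGroup.mk_pow, hs8, QuotientGroup.mk_one]
    have h3 : (QuotientGroup.mk c' : M ⧸ Cfsg.oddCore M) ^ 3 = 1 := by
      rw [← QuotientGroup.mk_pow, hc3, QuotientGroup.mk_one]
    calc (QuotientGroup.mk c' : M ⧸ Cfsg.oddCore M)
        = ((QuotientGroup.mk c' : M ⧸ Cfsg.oddCore M) ^ 3) ^ 3 *
          ((QuotientGroup.mk c' : M ⧸ Cfsg.oddCore M) ^ 8)⁻¹ := by group
      _ = 1 := by rw [h3, h8]; simp
  have huO : c' * (z' * c'⁻¹ * z'⁻¹) ∈ Cfsg.oddCore M :=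
    Subgroup.mul_mem _ hcO (hOn.conj_mem _ (Subgroup.inv_mem _ hcO) z')
  have hu : (c' * (z' * c'⁻¹ * z'⁻¹) : M) = ⟨E.ι (c0 * z0 * c0⁻¹ * z0), by
      have : E.ι (c0 * z0 * c0⁻¹ * z0) = E.ι c0 * E.ι z0 * (E.ι c0)⁻¹ * E.ι z0 := by simp
      rw [this]
      exact M.mul_mem (M.mul_mem (M.mul_mem (E.c_mem hMi) (E.z_mem hMi))
        (M.inv_mem (E.c_mem hMi))) (E.z_mem hMi)⟩ := by
    apply Subtype.ext
    show E.ι c0 * (E.ι z0 * (E.ι c0)⁻¹ * (E.ι z0)⁻¹) = E.ι (c0 * z0 * c0⁻¹ * z0)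
    have : z0⁻¹ = z0 := inv_eq_of_mul_eq_one_left z0_sq
    rw [← map_inv, ← map_inv, this]
    simp [mul_assoc]
  have hord : orderOf (c0 * z0 * c0⁻¹ * z0) = 2 := by
    apply orderOf_eq_prime
    · rw [sq]
      calc c0 * z0 * c0⁻¹ * z0 * (c0 * z0 * c0⁻¹ * z0)
          = c0 * z0 * c0⁻¹ * (z0 * (c0 * z0 * c0⁻¹)) * z0 := by group
        _ = c0 * z0 * c0⁻¹ * ((c0 * z0 * c0⁻¹) * z0) * z0 := by rw [c0_z0_comm]
        _ = c0 * (z0 * z0) * c0⁻¹ * (z0 * z0) := by group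
        _ = 1 := by rw [z0_sq]; group
    · intro h
      apply c0_z0_ne
      calc c0 * z0 * c0⁻¹ = (c0 * z0 * c0⁻¹ * z0) * z0⁻¹ := by group
        _ = z0 := by rw [h, one_mul]; exact inv_eq_of_mul_eq_one_left z0_sq
  have hord' : orderOf (⟨c' * (z' * c'⁻¹ * z'⁻¹), huO⟩ : Cfsg.oddCore M) = 2 := by
    rw [← Subgroup.orderOf_coe, ← Subgroup.orderOf_coe]
    show orderOf ((c' * (z' * c'⁻¹ * z'⁻¹) : M) : G) = 2
    rw [hu]
    show orderOf (E.ι (c0 * z0 * c0⁻¹ * z0)) = 2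
    rw [orderOf_injective E.ι E.inj, hord]
  have hdvd := orderOf_dvd_natCard (⟨c' * (z' * c'⁻¹ * z'⁻¹), huO⟩ : Cfsg.oddCore M)
  rw [hord'] at hdvd
  exact (Nat.not_even_iff_odd.2 hOodd) (even_iff_two_dvd.2 hdvd)

include E in
/-- the possibilities for `M`. -/
theorem cases_M [Finite G] (hMi : M.index = 2) (htM : t ∉ M) :
    Nat.card M = 24 ∨ Nonempty (M ≃* Equiv.Perm (Fin 5)) ∨
      (IsSimpleGroup M ∧ (Nat.card M = 168 ∨ Nat.card M = 360)) := by
  obtain ⟨e'⟩ := E.nonempty_dihedral hMi htM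
  have hz2 : orderOf (⟨E.ι z0, E.z_mem hMi⟩ : M) = 2 := by
    rw [← Subgroup.orderOf_coe]; exact E.orderOf_z
  obtain ⟨σ, τ, D⟩ := Cfsg.Agent.Lib.Helper37.exists_D8C hz2 e'
  rcases D.main_cases with h | ⟨⟨f⟩⟩ | h | h
  · exact (E.not_zstar hMi htM h).elim
  · left
    rw [Nat.card_congr f.toEquiv, Nat.card_eq_fintype_card, Fintype.card_perm]
    rfl
  · exact Or.inr (Or.inl h)
  · exact Or.inr (Or.inr ⟨h.simple, Cfsg.Agent.S0848.result h.perfect _ D.ordz e'⟩)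

end Emb

end Cfsg.Agent.Lib.Helper37.Z2S4
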