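import Mathlib
import Cfsg.Agent.Lib.Helper37.Z2S4Sub
import Cfsg.Agent.Lib.Helper37.Z2S4Perm
import Cfsg.Agent.S0497

/-!
# `C(t) ≅ Z₂ × S₄`, `C(S') = S`: the classification (helper37)
-/

set_option autoImplicit false

namespace Cfsg.Agent.Lib.Helper37.Z2S4

open Equiv

variable {G : Type*} [Group G]

namespace Emb

variable {t : G} (E : Emb t) {M : Subgroup G}

include E in
theorem card_C : Nat.card (Subgroup.centralizer ({t} : Set G)) = 48 := E.kap_t

include E in
/-- only the identity centralizes `M`. -/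
theorem eq_one_of_centralizes [Finite G] (hMi : M.index = 2) (htM : t ∉ M) (h48 : 48 < Nat.card M)
    {x : G} (hx : ∀ m ∈ M, x * m = m * x) : x = 1 := by
  obtain ⟨x0, -, rfl⟩ := E.cz x (hx _ (E.z_mem hMi))
  have hcen : ∀ y : X, x0 * y = y * x0 := by
    intro y
    apply E.inj
    rw [map_mul, map_mul]
    rcases mem_or hMi htM (E.ι y) with h | h
    · exact hx _ h
    · have h1 := hx _ h
      have h2 := E.comm_t x0
      calc E.ι x0 * E.ι y = t⁻¹ * (t * E.ι x0) * E.ι y := by group
        _ = t⁻¹ * (E.ι x0 * t) * E.ι y := by rw [h2]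
        _ = t⁻¹ * (E.ι x0 * (t * E.ι y)) := by group
        _ = t⁻¹ * (t * E.ι y * E.ι x0) := by rw [h1]
        _ = _ := by group
  rcases center_X x0 hcen with h | h
  · rw [h, map_one]
  · exfalso
    rw [h, E.ιt] at hx
    have hle : M ≤ Subgroup.centralizer ({t} : Set G) := fun m hm =>
      Subgroup.mem_centralizer_singleton_iff.2 (hx m hm).symm
    have := Nat.le_of_dvd (by rw [E.card_C]; norm_num) (Subgroup.card_dvd_of_le hle)
    rw [E.card_C] at this
    omega

include E in
/-- the action on the cosets of `C(t)` is faithful. -/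
theorem toPermHom_injective [Finite G] (hMn : M.Normal) (hMi : M.index = 2) (htM : t ∉ M)
    (h48 : 48 < Nat.card M)
    (hN : ∀ N : Subgroup G, N.Normal → N ≤ M → N ≤ Subgroup.centralizer ({t} : Set G) → N = ⊥) :
    Function.Injective (MulAction.toPermHom G (G ⧸ Subgroup.centralizer ({t} : Set G))) := by
  rw [← MonoidHom.ker_eq_bot_iff, ← Subgroup.normalCore_eq_ker]
  set K := (Subgroup.centralizer ({t} : Set G)).normalCore with hK
  have hKn : K.Normal := Subgroup.normalCore_normal _
  have hKM : K ⊓ M = ⊥ :=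
    hN _ inferInstance inf_le_right (inf_le_left.trans (Subgroup.normalCore_le _))
  rw [Subgroup.eq_bot_iff_forall]
  intro x hx
  by_cases hxM : x ∈ M
  · have : x ∈ K ⊓ M := ⟨hx, hxM⟩
    rw [hKM] at this
    exact Subgroup.mem_bot.1 this
  · apply E.eq_one_of_centralizes hMi htM h48
    intro m _
    have h1 : m * x * m⁻¹ ∈ K := hKn.conj_mem x hx m
    have h2 : m * x * m⁻¹ ∉ M := fun h => hxM (by
      have := hMn.conj_mem _ h m⁻¹
      simpa [mul_assoc] using this)
    have h3 : (m * x * m⁻¹) * x⁻¹ ∈ K ⊓ M := by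
      have h5 : (m * x * m⁻¹) * x⁻¹ ∈ M := by
        rw [Subgroup.mul_mem_iff_of_index_two hMi, inv_mem_iff]
        exact ⟨fun h => absurd h h2, fun h => absurd h hxM⟩
      exact ⟨K.mul_mem h1 (K.inv_mem hx), h5⟩
    rw [hKM] at h3
    have h4 : m * x * m⁻¹ * x⁻¹ = 1 := Subgroup.mem_bot.1 h3
    calc x * m = (m * x * m⁻¹ * x⁻¹)⁻¹ * (m * x) := by group
      _ = m * x := by rw [h4]; group

include E in
theorem card_G [Finite G] (hMi : M.index = 2) : Nat.card G = Nat.card M * 2 := by
  rw [← hMi, Subgroup.card_mul_index]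

include E in
theorem card_quot [Finite G] :
    Nat.card (G ⧸ Subgroup.centralizer ({t} : Set G)) * 48 = Nat.card G := by
  have := Subgroup.card_mul_index (Subgroup.centralizer ({t} : Set G))
  rw [E.card_C, Subgroup.index_eq_card] at this
  omega

include E in
theorem card_inf_C [Finite G] (hMi : M.index = 2) (htM : t ∉ M) :
    Nat.card (M ⊓ Subgroup.centralizer ({t} : Set G) : Subgroup G) = 24 := by
  have := card_inf_of_index_two M (Subgroup.centralizer ({t} : Set G)) hMi
    (t := t) (Subgroup.mem_centralizer_singleton_iff.2 rfl) htM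
  rw [E.card_C] at this
  omega

include E in
/-- `M ≅ S₅` is impossible. -/
theorem not_S5 [Finite G] (hMn : M.Normal) (hMi : M.index = 2) (htM : t ∉ M)
    (f : M ≃* Perm (Fin 5)) : False := by
  classical
  have hcM : Nat.card M = 120 := by
    rw [Nat.card_congr f.toEquiv, Nat.card_eq_fintype_card, Fintype.card_perm]; rfl
  have hinj := E.toPermHom_injective hMn hMi htM (by omega) (by
    intro N hNn hNM hNC
    by_contra hne
    set N' : Subgroup (Perm (Fin 5)) := (N.subgroupOf M).map f.toMonoidHom with hN'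
    have hn1 : (N.subgroupOf M).Normal := inferInstance
    have hn2 : N'.Normal := hn1.map _ f.surjective
    have hcard : Nat.card N' = Nat.card N := by
      rw [hN', Subgroup.card_map_of_injective f.injective,
        ← Subgroup.card_map_of_injective M.subtype_injective, Subgroup.subgroupOf_map_subtype,
        inf_eq_left.2 hNM]
    have hnt : Nontrivial N' := by
      rw [← Finite.one_lt_card_iff_nontrivial, hcard, Finite.one_lt_card_iff_nontrivial]
      exact (Subgroup.nontrivial_iff_ne_bot N).2 hne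
    have h1 := Equiv.Perm.alternatingGroup_le_of_normal (α := Fin 5) (by simp) hnt
    have h2 := Nat.le_of_dvd Nat.card_pos (Subgroup.card_dvd_of_le h1)
    have h3 : Nat.card (alternatingGroup (Fin 5)) = 60 := by
      have := two_mul_card_alternatingGroup (α := Fin 5)
      rw [Fintype.card_perm, Fintype.card_fin] at this
      rw [Nat.card_eq_fintype_card]
      have h5 : Nat.factorial 5 = 120 := rfl
      omega
    have h4 := Nat.le_of_dvd Nat.card_pos (Subgroup.card_dvd_of_le (le_inf hNM hNC))
    rw [E.card_inf_C hMi htM] at h4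
    omega)
  have h1 := Nat.card_le_card_of_injective _ hinj
  have h2 := E.card_quot
  rw [E.card_G hMi, hcM] at h2
  have h3 : Nat.card (G ⧸ Subgroup.centralizer ({t} : Set G)) = 5 := by omega
  rw [Nat.card_perm, h3, E.card_G hMi, hcM] at h1
  have h5 : Nat.factorial 5 = 120 := rfl
  omega

include E in
theorem hN_of_simple [Finite G] (hs : IsSimpleGroup M) (h48 : 48 < Nat.card M) :
    ∀ N : Subgroup G, N.Normal → N ≤ M → N ≤ Subgroup.centralizer ({t} : Set G) → N = ⊥ := by
  intro N hNn hNM hNC
  have hn1 : (N.subgroupOf M).Normal := inferInstance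
  rcases hn1.eq_bot_or_eq_top with h | h
  · rw [Subgroup.subgroupOf_eq_bot, disjoint_iff, inf_eq_left.2 hNM] at h
    exact h
  · exfalso
    rw [Subgroup.subgroupOf_eq_top] at h
    have := Nat.le_of_dvd (by rw [E.card_C]; norm_num) (Subgroup.card_dvd_of_le (h.trans hNC))
    rw [E.card_C] at this
    omega

include E in
/-- `|M| = 168` is impossible. -/
theorem not_168 [Finite G] (hMn : M.Normal) (hMi : M.index = 2) (htM : t ∉ M)
    (hs : IsSimpleGroup M) (hcM : Nat.card M = 168) : False := by
  classical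
  have hinj := E.toPermHom_injective hMn hMi htM (by omega) (E.hN_of_simple hs (by omega))
  have h2 := E.card_quot
  rw [E.card_G hMi, hcM] at h2
  have h3 : Nat.card (G ⧸ Subgroup.centralizer ({t} : Set G)) = 7 := by omega
  have : Fintype (G ⧸ Subgroup.centralizer ({t} : Set G)) := Fintype.ofFinite _
  apply no_336 (Ω := G ⧸ Subgroup.centralizer ({t} : Set G))
    (by rw [← Nat.card_eq_fintype_card, h3])
    (MulAction.toPermHom G (G ⧸ Subgroup.centralizer ({t} : Set G))).range
  rw [← Nat.card_congr (MonoidHom.ofInjective hinj).toEquiv, E.card_G hMi, hcM]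

include E in
/-- `M ≅ A₆` forces `G ≅ S₆`. -/
theorem iso_S6 [Finite G] (hMn : M.Normal) (hMi : M.index = 2) (htM : t ∉ M)
    (φ : M ≃* alternatingGroup (Fin 6)) : Nonempty (G ≃* Perm (Fin 6)) := by
  classical
  have hcA : Nat.card (alternatingGroup (Fin 6)) = 360 := by
    have := two_mul_card_alternatingGroup (α := Fin 6)
    rw [Fintype.card_perm, Fintype.card_fin] at this
    rw [Nat.card_eq_fintype_card]
    have h5 : Nat.factorial 6 = 720 := rfl
    omega
  have hcM : Nat.card M = 360 := by rw [Nat.card_congr φ.toEquiv, hcA]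
  let ψ : G →* MulAut (alternatingGroup (Fin 6)) :=
    (MulAut.congr φ).toMonoidHom.comp (MulAut.conjNormal : G →* MulAut M)
  have hψ : ∀ (g : G) (x : alternatingGroup (Fin 6)),
      ψ g x = φ (MulAut.conjNormal g (φ.symm x)) := fun g x => rfl
  let cn : Perm (Fin 6) →* MulAut (alternatingGroup (Fin 6)) := MulAut.conjNormal
  have hcn : Function.Injective cn :=
    Cfsg.Agent.Lib.Helper69.AutAlt.conjNormal_injective (by norm_num)
  have hψM : ∀ g ∈ M, ψ g ∈ cn.range := by
    intro g hg
    refine ⟨(φ ⟨g, hg⟩ : Perm (Fin 6)), ?_⟩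
    ext1 x
    rw [hψ]
    apply Subtype.ext
    rw [MulAut.conjNormal_apply]
    have : (MulAut.conjNormal g (φ.symm x) : M) = ⟨g, hg⟩ * φ.symm x * ⟨g, hg⟩⁻¹ := by
      apply Subtype.ext
      rw [MulAut.conjNormal_apply]
      rfl
    rw [this, map_mul, map_mul, map_inv, MulEquiv.apply_symm_apply]
    rfl
  have hψt : ψ t ∈ cn.range := by
    have hc3 : orderOf (φ ⟨E.ι c0, E.c_mem hMi⟩) = 3 := by
      rw [MulEquiv.orderOf_eq, ← Subgroup.orderOf_coe]
      show orderOf (E.ι c0) = 3
      rw [orderOf_injective E.ι E.inj]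
      apply orderOf_eq_prime
      · rw [← c0_cube]; simp only [pow_succ, pow_zero, one_mul]
      · exact c0_ne
    apply aut_of_fix (ψ t) _ hc3
    rw [hψ, MulEquiv.symm_apply_apply]
    congr 1
    apply Subtype.ext
    rw [MulAut.conjNormal_apply]
    show t * E.ι c0 * t⁻¹ = E.ι c0
    rw [← E.comm_t c0]; group
  have hψR : ψ.range ≤ cn.range := by
    rintro _ ⟨g, rfl⟩
    rcases mem_or hMi htM g with h | h
    · exact hψM g h
    · have : ψ g = (ψ t)⁻¹ * ψ (t * g) := by rw [map_mul]; group
      rw [this]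
      exact cn.range.mul_mem (cn.range.inv_mem hψt) (hψM _ h)
  have hψinj : Function.Injective ψ := by
    rw [injective_iff_map_eq_one]
    intro x hx
    apply E.eq_one_of_centralizes hMi htM (by omega)
    intro m hm
    have h1 : ψ x (φ ⟨m, hm⟩) = φ ⟨m, hm⟩ := by rw [hx]; rfl
    rw [hψ, MulEquiv.symm_apply_apply] at h1
    have h2 := congrArg Subtype.val (φ.injective h1)
    rw [MulAut.conjNormal_apply] at h2
    have h3 : x * m * x⁻¹ = m := h2
    calc x * m = (x * m * x⁻¹) * x := by group
      _ = m * x := by rw [h3]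
  have hcard1 : Nat.card ψ.range = 720 := by
    rw [← Nat.card_congr (MonoidHom.ofInjective hψinj).toEquiv, E.card_G hMi, hcM]
  have hcard2 : Nat.card cn.range = 720 := by
    rw [← Nat.card_congr (MonoidHom.ofInjective hcn).toEquiv, Nat.card_eq_fintype_card,
      Fintype.card_perm, Fintype.card_fin]
    rfl
  have heq : ψ.range = cn.range :=
    Subgroup.eq_of_le_of_card_ge hψR (by rw [hcard1, hcard2])
  exact ⟨(MonoidHom.ofInjective hψinj).trans
    ((MulEquiv.subgroupCongr heq).trans (MonoidHom.ofInjective hcn).symm)⟩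

include E in
/-- the classification. -/
theorem main [Finite G] :
    Subgroup.centralizer ({t} : Set G) = ⊤ ∨ Nonempty (G ≃* Perm (Fin 6)) := by
  obtain ⟨M, hMn, hMi, htM⟩ := E.exists_index_two
  rcases E.cases_M hMi htM with h | ⟨⟨f⟩⟩ | ⟨hs, h | h⟩
  · left
    apply Subgroup.eq_top_of_card_eq
    rw [E.card_C, E.card_G hMi, h]
  · exact (E.not_S5 hMn hMi htM f).elim
  · exact (E.not_168 hMn hMi htM hs h).elim
  · right
    obtain ⟨φ⟩ := Cfsg.Agent.S0497.result (G := M) h
    exact E.iso_S6 hMn hMi htM φ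

end Emb

end Cfsg.Agent.Lib.Helper37.Z2S4
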